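import Cfsg.Agent.Lib.InvChar.SuzType.Pair

/-!
Involutions of the centraliser of a central involution in a group of Suzuki type.
-/

set_option autoImplicit false
set_option linter.unusedSectionVars false
set_option linter.style.haveILetI false

namespace CfsgLib.InvChar.SuzType

open Subgroup CfsgLib.PLocal.LargeExtra

theorem code_inj : ∀ a < 64, ∀ b < 64, code a = code b → a = b := by decide +kernel

theorem code_surj : ∀ x : V, ∃ n < 64, code n = x := by decide +kernel

theorem apc_id : ∀ n < 64, apc [1, 2, 4, 8, 16, 32] n = n := by decide +kernel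

variable {G : Type*} [Group G] [Finite G] {z : G} {Q : Subgroup G} {φ : G → V}

theorem mul_comm_z {h k : G} (hh : h * z = z * h) (hk : k * z = z * k) : h * k * z = z * (h * k) := by
  rw [mul_assoc, hk, ← mul_assoc, hh, mul_assoc]

theorem inv_comm_z {h : G} (hh : h * z = z * h) : h⁻¹ * z = z * h⁻¹ := (Commute.inv_left hh).eq

namespace Data

variable (S : Data z Q φ)
include S

theorem act_inv_left {h : G} (hh : h * z = z * h) (x : V) :
    act Q φ h⁻¹ (act Q φ h x) = x := by
  rw [← S.act_mul (inv_comm_z hh) hh, inv_mul_cancel, S.act_of_mem Q.one_mem]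

theorem act_inv_right {h : G} (hh : h * z = z * h) (x : V) :
    act Q φ h (act Q φ h⁻¹ x) = x := by
  rw [← S.act_mul hh (inv_comm_z hh), mul_inv_cancel, S.act_of_mem Q.one_mem]

/-- The permutations of the coordinates induced by the centraliser of `z`. -/
noncomputable def perm (S : Data z Q φ) : ↥(centralizer ({z} : Set G)) →* Equiv.Perm V where
  toFun h :=
    { toFun := act Q φ h
      invFun := act Q φ (h : G)⁻¹
      left_inv := S.act_inv_left (mem_centralizer_singleton_iff.1 h.2)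
      right_inv := S.act_inv_right (mem_centralizer_singleton_iff.1 h.2) }
  map_one' := Equiv.ext fun x => S.act_of_mem Q.one_mem x
  map_mul' h k := Equiv.ext fun x =>
    S.act_mul (mem_centralizer_singleton_iff.1 h.2) (mem_centralizer_singleton_iff.1 k.2) x

theorem perm_apply (h : ↥(centralizer ({z} : Set G))) (x : V) :
    S.perm h x = act Q φ (h : G) x := rfl

theorem card_Q : Nat.card ↥Q = 128 := by
  classical
  haveI : Fintype ↥Q := Fintype.ofFinite _
  have h1 : ∀ v : V, (Finset.univ.filter fun a : ↥Q => φ a = v).card = 2 := by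
    intro v
    obtain ⟨a, ha, rfl⟩ := S.hsurj v
    rw [Finset.card_eq_two]
    refine ⟨⟨a, ha⟩, ⟨a * z, mul_mem ha S.zQ⟩,
      fun e => S.zne (mul_eq_left.1 (congrArg Subtype.val e).symm), ?_⟩
    ext b
    simp only [Finset.mem_filter, Finset.mem_univ, true_and, Finset.mem_insert,
      Finset.mem_singleton]
    refine ⟨fun e => ?_, ?_⟩
    · rcases S.phi_eq b.2 ha e with e' | e'
      · exact Or.inl (Subtype.ext e')
      · exact Or.inr (Subtype.ext e')
    · rintro (rfl | rfl)
      · rfl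
      · exact S.phi_mul_z ha
  rw [Nat.card_eq_fintype_card, ← Finset.card_univ,
    Finset.card_eq_sum_card_fiberwise (f := fun a : ↥Q => φ a) (t := Finset.univ)
      (fun a _ => Finset.mem_univ _), Finset.sum_congr rfl fun v _ => h1 v]
  rfl

theorem card_range : Nat.card ↥S.perm.range = 25920 := by
  have hk : S.perm.ker = Q.subgroupOf (centralizer ({z} : Set G)) := by
    ext h
    rw [MonoidHom.mem_ker, mem_subgroupOf]
    refine ⟨fun e => S.mem_of_act_id (mem_centralizer_singleton_iff.1 h.2) fun x => ?_,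
      fun e => Equiv.ext fun x => S.act_of_mem e x⟩
    rw [← S.perm_apply, e]; rfl
  have h1 := card_eq_card_quotient_mul_card_subgroup S.perm.ker
  rw [Nat.card_congr (QuotientGroup.quotientKerEquivRange S.perm).toEquiv, hk,
    Nat.card_congr (subgroupOfEquivOfLe (fun q hq => mem_centralizer_singleton_iff.2
      (S.commQ hq))).toEquiv, S.card_Q, S.cardC] at h1
  omega

/-- An involution of the image fixes a singular vector `v` and moves `v⊥` only within `⟨v⟩`. -/
theorem exists_witness {t : G} (ht : t * z = z * t) (h2 : ∀ x, act Q φ t (act Q φ t x) = x)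
    (h1 : ∃ x, act Q φ t x ≠ x) :
    ∃ v : V, v ≠ 0 ∧ qf v = 0 ∧ act Q φ t v = v ∧
      ∀ x, bf x v = 0 → act Q φ t x = x ∨ act Q φ t x = x + v := by
  classical
  haveI : Fact (Nat.Prime 2) := ⟨Nat.prime_two⟩
  let Sm : Submonoid ↥S.perm.range :=
    { carrier := {σ | ∃ p ∈ sylData, ∀ x, (σ : Equiv.Perm V) x = wfun p.2 x}
      one_mem' := by
        obtain ⟨-, -, p, hp, hp2⟩ := syl_nodup
        exact ⟨p, hp, fun x => by rw [hp2]; rfl⟩
      mul_mem' := by
        rintro σ τ ⟨p, hp, hσ⟩ ⟨r, hr, hτ⟩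
        obtain ⟨s, hs, hse⟩ := List.mem_map.1 (syl_closed p hp r hr)
        refine ⟨s, hs, fun x => ?_⟩
        show (σ : Equiv.Perm V) ((τ : Equiv.Perm V) x) = _
        rw [hσ, hτ]
        refine ext_basis (f := fun y => wfun p.2 (wfun r.2 y))
          (fun a b => by simp only [wfun_add]) (wfun_add s.2) (fun i hi => ?_) x
        have hlt : 2 ^ i < 64 := lt_of_lt_of_le (Nat.pow_lt_pow_right one_lt_two hi) le_rfl
        show wfun p.2 (wfun r.2 (code (2 ^ i))) = wfun s.2 (code (2 ^ i))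
        rw [syl_eval r hr _ hlt, syl_basis r hr i hi, syl_eval p hp _ (syl_lt r hr i hi),
          syl_eval s hs _ hlt, syl_basis s hs i hi, hse, List.getD_eq_getElem _ _ (by
            rw [(syl_good r hr).2]; exact hi), List.getD_eq_getElem _ _ (by
            rw [List.length_map, (syl_good r hr).2]; exact hi), List.getElem_map] }
  let Sg : Subgroup ↥S.perm.range :=
    { Sm with
      inv_mem' := fun {σ} hσ => by
        have h : σ⁻¹ = σ ^ (orderOf σ - 1) := inv_eq_of_mul_eq_one_right (by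
          rw [← pow_succ', Nat.sub_add_cancel (orderOf_pos σ), pow_orderOf_eq_one])
        rw [h]; exact Sm.pow_mem hσ _ }
  have hlen := syl_nodup.2.1
  have hmem : ∀ i : Fin sylData.length, ∃ σ : ↥Sg,
      ∀ x, ((σ : ↥S.perm.range) : Equiv.Perm V) x = wfun sylData[i.1].2 x := by
    intro i
    have hp : sylData[i.1] ∈ sylData := List.getElem_mem _
    obtain ⟨h, hh, hh'⟩ := S.exists_word _ (syl_good _ hp).1
    exact ⟨⟨⟨S.perm ⟨h, mem_centralizer_singleton_iff.2 hh⟩, ⟨_, rfl⟩⟩,
      sylData[i.1], hp, hh'⟩, hh'⟩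
  choose F hF using hmem
  have hFb : Function.Bijective F := by
    refine ⟨fun i j e => ?_, fun σ => ?_⟩
    · have hi : sylData[i.1] ∈ sylData := List.getElem_mem _
      have hj : sylData[j.1] ∈ sylData := List.getElem_mem _
      have he : (sylData.map Prod.fst)[i.1]'(by simp) = (sylData.map Prod.fst)[j.1]'(by simp) := by
        rw [List.getElem_map, List.getElem_map]
        refine List.ext_getElem (by rw [(syl_good _ hi).2, (syl_good _ hj).2]) fun k hk1 hk2 => ?_
        have hk : k < 6 := (syl_good _ hi).2 ▸ hk1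
        have hlt : 2 ^ k < 64 := lt_of_lt_of_le (Nat.pow_lt_pow_right one_lt_two hk) le_rfl
        have h := (hF i (code (2 ^ k))).symm
        rw [e, hF j (code (2 ^ k))] at h
        rw [syl_eval _ hi _ hlt, syl_eval _ hj _ hlt, syl_basis _ hi k hk, syl_basis _ hj k hk] at h
        have h' := code_inj _ (syl_lt _ hi k hk) _ (syl_lt _ hj k hk) h
        rwa [List.getD_eq_getElem _ _ hk1, List.getD_eq_getElem _ _ hk2] at h'
      exact Fin.ext ((syl_nodup.1.getElem_inj_iff).1 he)
    · obtain ⟨p, hp, hσ⟩ := σ.2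
      obtain ⟨i, hi, hip⟩ := List.getElem_of_mem hp
      refine ⟨⟨i, hi⟩, Subtype.ext (Subtype.ext (Equiv.ext fun x => ?_))⟩
      rw [hF, hσ]; simp only [hip]
  have hcard : Nat.card ↥Sg = 2 ^ 6 := by
    rw [← Nat.card_eq_of_bijective F hFb, Nat.card_fin, hlen]; norm_num
  obtain ⟨P0, hP0⟩ := (IsPGroup.of_card hcard).exists_le_sylow
  have hP0' : (P0 : Subgroup ↥S.perm.range) = Sg := by
    refine (eq_of_le_of_card_ge hP0 ?_).symm
    obtain ⟨k, hk⟩ := IsPGroup.iff_card.1 P0.isPGroup'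
    rw [hk, hcard]
    refine Nat.pow_le_pow_right two_pos ?_
    by_contra hlt
    have hd : 2 ^ 7 ∣ 25920 := by
      rw [← S.card_range]
      exact (pow_dvd_pow 2 (by omega)).trans (hk ▸ card_subgroup_dvd_card _)
    norm_num at hd
  obtain ⟨σ, hσdef⟩ : ∃ σ : ↥S.perm.range, ∀ x, (σ : Equiv.Perm V) x = act Q φ t x :=
    ⟨⟨S.perm ⟨t, mem_centralizer_singleton_iff.2 ht⟩, ⟨_, rfl⟩⟩, fun _ => rfl⟩
  have hσ2 : σ ^ 2 = 1 := Subtype.ext (Equiv.ext fun x => by
    show ((σ : Equiv.Perm V) ^ 2) x = x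
    rw [pow_two, Equiv.Perm.mul_apply, hσdef, hσdef, h2])
  have hpz : IsPGroup 2 ↥(zpowers σ) := by
    obtain ⟨k, -, hk⟩ := (Nat.dvd_prime_pow Nat.prime_two).1
      (show orderOf σ ∣ 2 ^ 1 by rw [pow_one]; exact orderOf_dvd_of_pow_eq_one hσ2)
    exact IsPGroup.of_card (n := k) (by rw [Nat.card_zpowers, hk])
  obtain ⟨P1, hP1⟩ := hpz.exists_le_sylow
  obtain ⟨τ, hτ⟩ := MulAction.exists_smul_eq ↥S.perm.range P1 P0
  have hmem' : τ * σ * τ⁻¹ ∈ Sg := by
    rw [← hP0', ← hτ, Sylow.coe_subgroup_smul]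
    exact ⟨σ, hP1 (mem_zpowers σ), rfl⟩
  obtain ⟨p, hp, hpe⟩ := hmem'
  obtain ⟨k, hk, hτk⟩ : ∃ k : G, k * z = z * k ∧ ∀ x, (τ : Equiv.Perm V) x = act Q φ k x := by
    obtain ⟨c, hc⟩ := τ.2
    exact ⟨c, mem_centralizer_singleton_iff.1 c.2, fun x => by rw [← hc]; rfl⟩
  have hτi : ∀ x, ((τ : Equiv.Perm V)⁻¹) x = act Q φ k⁻¹ x := fun x => by
    rw [Equiv.Perm.inv_def, Equiv.symm_apply_eq, hτk, S.act_inv_right hk]
  have hpe' : ∀ x, act Q φ k (act Q φ t (act Q φ k⁻¹ x)) = wfun p.2 x := fun x => by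
    rw [← hpe x, ← hσdef, ← hτk, ← hτi]; rfl
  have hinv : ∀ i < 6, apc p.1 (p.1.getD i 0) = 2 ^ i := fun i hi => by
    have hlt : 2 ^ i < 64 := lt_of_lt_of_le (Nat.pow_lt_pow_right one_lt_two hi) le_rfl
    have h := hpe' (act Q φ k (act Q φ t (act Q φ k⁻¹ (code (2 ^ i)))))
    rw [S.act_inv_left hk, h2, S.act_inv_right hk, hpe', syl_eval p hp _ hlt, syl_basis p hp i hi,
      syl_eval p hp _ (syl_lt p hp i hi)] at h
    refine (code_inj _ hlt _ ?_ h).symm
    have := syl_basis p hp i hi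
    have hb : ∀ q ∈ sylData, ∀ n < 64, apc q.1 n < 64 := by decide +kernel
    exact hb p hp _ (syl_lt p hp i hi)
  have hne : p.1 ≠ [1, 2, 4, 8, 16, 32] := fun e => by
    obtain ⟨x, hx⟩ := h1
    obtain ⟨n, hn, hnx⟩ := code_surj (act Q φ k x)
    have h := hpe' (act Q φ k x)
    rw [S.act_inv_left hk, ← hnx, syl_eval p hp n hn, e, apc_id n hn, hnx] at h
    have := congrArg (act Q φ k⁻¹) h
    rw [S.act_inv_left hk, S.act_inv_left hk] at this
    exact hx this
  obtain ⟨v, hv, hv0, hvq, hvf, hvp⟩ := syl_witness p hp hinv hne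
  have hki := inv_comm_z hk
  refine ⟨act Q φ k⁻¹ (code v), fun e => hv0 ?_, by rw [S.act_qf hki, hvq], ?_, fun x hx => ?_⟩
  · have := congrArg (act Q φ k) e
    rw [S.act_inv_right hk] at this
    rw [this]
    have h := S.act_add hk 0 0
    rw [add_zero] at h
    exact left_eq_add.1 h
  · have h := congrArg (act Q φ k⁻¹) (hpe' (code v))
    rwa [S.act_inv_left hk, syl_eval p hp v hv, hvf] at h
  · obtain ⟨n, hn, hnx⟩ := code_surj (act Q φ k x)
    have h := congrArg (act Q φ k⁻¹) (hpe' (code n))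
    rw [S.act_inv_left hk, syl_eval p hp n hn] at h
    have hbn : bf (code n) (code v) = 0 := by
      rw [hnx, ← S.act_inv_right hk (code v), S.act_bf hk, hx]
    have hxn : act Q φ k⁻¹ (code n) = x := by rw [hnx, S.act_inv_left hk]
    rw [hxn] at h
    rcases hvp n hn hbn with e | e
    · rw [e, hxn] at h; exact Or.inl h
    · rw [e, code_xor, S.act_add hki, hxn] at h; exact Or.inr h

end Data

end CfsgLib.InvChar.SuzType
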