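import Cfsg.Agent.Lib.InvChar.SuzType.Data
import Cfsg.Agent.Lib.InvChar.HallJankoSetup
import Cfsg.Agent.Lib.StructC.ExtraspecialCount
import Cfsg.Agent.Lib.Trans3.ExtraTwo
import Cfsg.Agent.Lib.Trans3.InnerCentral
import Cfsg.Agent.Lib.Amalgam.SixMinusSylow
import Cfsg.Agent.Lib.Classical.OrthOrder

/-!
Coordinates for a group of Suzuki type: the extraspecial group is of minus type and its centraliser
induces the commutator subgroup of the orthogonal group on it.
-/

set_option autoImplicit false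
set_option linter.unusedSectionVars false

namespace CfsgLib.InvChar.SuzType

open Subgroup Matrix CfsgLib.Trans3.ExtraTwo CfsgLib.PLocal.LargeExtra

/-- An involutive additive map preserving `f` as an isometry. -/
theorem exists_iso_fun {ι : Type} [Fintype ι] [DecidableEq ι] (f : (ι → ZMod 2) → ZMod 2)
    (r : (ι → ZMod 2) → (ι → ZMod 2)) (hadd : ∀ x y, r (x + y) = r x + r y) (hrr : ∀ x, r (r x) = x)
    (hf : ∀ x, f (r x) = f x) :
    ∃ g : Cfsg.isometryGroup (ZMod 2) f,
      ∀ x, ((g : GL ι (ZMod 2)) : Matrix ι ι (ZMod 2)) *ᵥ x = r x := by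
  let L : (ι → ZMod 2) →ₗ[ZMod 2] (ι → ZMod 2) := (AddMonoidHom.mk' r hadd).toZModLinearMap 2
  have hL : ∀ x, LinearMap.toMatrix' L *ᵥ x = r x := fun x => by
    rw [LinearMap.toMatrix'_mulVec]; rfl
  have hM : LinearMap.toMatrix' L * LinearMap.toMatrix' L = 1 := Matrix.ext_iff_mulVec.2 fun x => by
    rw [← mulVec_mulVec, hL, hL, hrr, one_mulVec]
  refine ⟨⟨⟨_, _, hM, hM⟩, fun u _ => ?_⟩, hL⟩
  show f (LinearMap.toMatrix' L *ᵥ u) = f u
  rw [hL, hf]

variable {G : Type*} [Group G] [Finite G] {z : G} {Q : Subgroup G}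

/-- The representation on `Q` modulo its centre, for a given model of `Q`. -/
theorem exists_rep (P : Pack Q z) {t : Fin 3 → Bool} (ψ : ↥Q ≃* ES 3 t) {ι : Type} [Fintype ι]
    [DecidableEq ι] (f : (ι → ZMod 2) → ZMod 2) (L : Sp 3 ≃ (ι → ZMod 2))
    (hL : ∀ x y, L (x + y) = L x + L y) (hf : ∀ x, f (L x) = beta t x x) :
    ∃ π : ↥(centralizer ({z} : Set G)) →* Cfsg.isometryGroup (ZMod 2) f,
      π.ker = Q.subgroupOf (centralizer ({z} : Set G)) ∧
      ∀ (h : ↥(centralizer ({z} : Set G))) (q : ↥Q) (hq : (h : G) * q * (h : G)⁻¹ ∈ Q),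
        ((π h : GL ι (ZMod 2)) : Matrix ι ι (ZMod 2)) *ᵥ L (ψ q).v =
          L (ψ ⟨(h : G) * q * (h : G)⁻¹, hq⟩).v := by
  set C := centralizer ({z} : Set G) with hC
  have hn : ∀ (h : ↥C) (q : ↥Q), (h : G) * q * (h : G)⁻¹ ∈ Q := fun h q =>
    (mem_normalizer_iff.1 (P.norm h.2) q).1 q.2
  -- the automorphism induced by `h`
  let cj : ↥C → ↥Q → ↥Q := fun h q => ⟨(h : G) * q * (h : G)⁻¹, hn h q⟩
  have cj_mul : ∀ h q q', cj h (q * q') = cj h q * cj h q' := fun h q q' => Subtype.ext (by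
    show (h : G) * (q * q') * (h : G)⁻¹ = (h : G) * q * (h : G)⁻¹ * ((h : G) * q' * (h : G)⁻¹)
    group)
  have cj_cj : ∀ h k q, cj h (cj k q) = cj (h * k) q := fun h k q => Subtype.ext (by
    show (h : G) * ((k : G) * q * (k : G)⁻¹) * (h : G)⁻¹ = (h : G) * k * q * ((h : G) * k)⁻¹
    group)
  have hcj : ∀ h (q q' : ↥Q), (ψ q).v = (ψ q').v → (ψ (cj h q)).v = (ψ (cj h q')).v := by
    intro h q q' e
    have hc : q⁻¹ * q' ∈ center ↥Q := by
      have : ψ (q⁻¹ * q') ∈ center (ES 3 t) := (mem_center_iff t _).2 (by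
        rw [map_mul, map_inv, mul_v]
        show (ψ q).v + (ψ q').v = 0
        rw [e, sp_add_self])
      exact Subgroup.mem_center_iff.2 fun y => ψ.injective (by
        rw [map_mul ψ y, map_mul ψ _ y]; exact Subgroup.mem_center_iff.1 this _)
    have hc' : cj h (q⁻¹ * q') ∈ center ↥Q := Subgroup.mem_center_iff.2 fun y => by
      obtain ⟨y', rfl⟩ : ∃ y', cj h y' = y := ⟨cj h⁻¹ y, by
        rw [cj_cj, mul_inv_cancel]; exact Subtype.ext (by simp [cj])⟩
      rw [← cj_mul, ← cj_mul, Subgroup.mem_center_iff.1 hc y']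
    have e' : ψ (cj h (q⁻¹ * q')) ∈ center (ES 3 t) := Subgroup.mem_center_iff.2 fun y => by
      rw [← ψ.apply_symm_apply y, ← map_mul, ← map_mul, Subgroup.mem_center_iff.1 hc']
    rw [mem_center_iff] at e'
    conv_rhs => rw [← mul_inv_cancel_left q q']
    rw [cj_mul, map_mul, mul_v, e', add_zero]
  let sec : (ι → ZMod 2) → ↥Q := fun x => ψ.symm ⟨L.symm x, 0⟩
  have hsec : ∀ x, L (ψ (sec x)).v = x := fun x => by simp [sec]
  let fh : ↥C → (ι → ZMod 2) → (ι → ZMod 2) := fun h x => L (ψ (cj h (sec x))).v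
  have fh_v : ∀ h q, fh h (L (ψ q).v) = L (ψ (cj h q)).v := fun h q =>
    congrArg L (hcj h _ _ (L.injective (hsec _)))
  have fh_add : ∀ h x y, fh h (x + y) = fh h x + fh h y := by
    intro h x y
    have : (ψ (sec (x + y))).v = (ψ (sec x * sec y)).v := L.injective (by
      rw [hsec, map_mul, mul_v, hL, hsec, hsec])
    show L _ = L _ + L _
    rw [hcj h _ _ this, cj_mul, map_mul, mul_v, hL]
  let Mat : ↥C → Matrix ι ι (ZMod 2) := fun h =>
    LinearMap.toMatrix' ((AddMonoidHom.mk' (fh h) (fh_add h)).toZModLinearMap 2)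
  have hMat : ∀ h x, Mat h *ᵥ x = fh h x := fun h x => by
    show LinearMap.toMatrix' _ *ᵥ x = _
    rw [LinearMap.toMatrix'_mulVec]; rfl
  let ρ : ↥C →* Matrix ι ι (ZMod 2) :=
    { toFun := Mat
      map_one' := Matrix.ext_iff_mulVec.2 fun x => by
        rw [hMat, one_mulVec]
        show L (ψ (cj 1 (sec x))).v = x
        rw [show cj 1 (sec x) = sec x from Subtype.ext (by simp [cj]), hsec]
      map_mul' := fun h k => Matrix.ext_iff_mulVec.2 fun x => by
        rw [← mulVec_mulVec, hMat, hMat, hMat]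
        show L _ = fh h (L _)
        rw [fh_v, cj_cj] }
  have hsq : ∀ (h : ↥C) (q : ↥Q), beta t (ψ (cj h q)).v (ψ (cj h q)).v = beta t (ψ q).v (ψ q).v := by
    intro h q
    have hz : ∀ x : ↥Q, ((x : G) * x = 1 ↔ beta t (ψ x).v (ψ x).v = 0) := by
      intro x
      rw [← Subgroup.coe_mul, OneMemClass.coe_eq_one, ← map_eq_one_iff ψ ψ.injective, map_mul,
        sq_eq]
      constructor
      · intro e; exact congrArg ES.c e
      · intro e; rw [e]; rfl
    have h1 := hz (cj h q)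
    rw [show ((cj h q : ↥Q) : G) * (cj h q : ↥Q) = (h : G) * ((q : G) * q) * (h : G)⁻¹ by
      show (h : G) * q * (h : G)⁻¹ * ((h : G) * q * (h : G)⁻¹) = _
      group, conj_eq_one_iff, hz q] at h1
    rcases z2_cases (beta t (ψ q).v (ψ q).v) with e | e <;>
      rcases z2_cases (beta t (ψ (cj h q)).v (ψ (cj h q)).v) with e' | e' <;> simp [e, e'] at h1 ⊢
  let π : ↥C →* Cfsg.isometryGroup (ZMod 2) f :=
    (MonoidHom.toHomUnits ρ).codRestrict _ fun h u _ => by
      show f (Mat h *ᵥ u) = f u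
      rw [hMat, ← hsec u, fh_v, hf, hf, hsq]
  refine ⟨π, ?_, fun h q hq => ?_⟩
  · ext h
    rw [MonoidHom.mem_ker, mem_subgroupOf]
    constructor
    · intro e
      have hfix : ∀ q : ↥Q, (ψ (cj h q)).v = (ψ q).v := fun q => L.injective (by
        have e' : Mat h = 1 := congrArg
          (fun g : Cfsg.isometryGroup (ZMod 2) f => ((g : GL ι (ZMod 2)) : Matrix ι ι (ZMod 2))) e
        rw [← fh_v, ← hMat, e', one_mulVec])
      let φ : ↥Q ≃* ↥Q :=
        { toFun := cj h
          invFun := cj h⁻¹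
          left_inv := fun q => by rw [cj_cj, inv_mul_cancel]; exact Subtype.ext (by simp [cj])
          right_inv := fun q => by rw [cj_cj, mul_inv_cancel]; exact Subtype.ext (by simp [cj])
          map_mul' := cj_mul h }
      obtain ⟨g, hg⟩ := CfsgLib.Trans3.exists_conj_of_trivial_mod_center P.ext φ fun q => by
        have : ψ (φ q * q⁻¹) ∈ center (ES 3 t) := (mem_center_iff t _).2 (by
          rw [map_mul, map_inv, mul_v]
          show (ψ (cj h q)).v + (ψ q).v = 0
          rw [hfix, sp_add_self])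
        exact Subgroup.mem_center_iff.2 fun y => ψ.injective (by
          rw [map_mul ψ y, map_mul ψ _ y]; exact Subgroup.mem_center_iff.1 this _)
      have hmem : (g : G)⁻¹ * h ∈ Q := P.cent (mem_centralizer_iff.2 fun q hq => by
        have e := congrArg Subtype.val (hg ⟨q, hq⟩)
        change (h : G) * q * (h : G)⁻¹ = (g : G) * q * (g : G)⁻¹ at e
        calc q * ((g : G)⁻¹ * h) = (g : G)⁻¹ * ((g : G) * q * (g : G)⁻¹) * h := by group
          _ = (g : G)⁻¹ * h * q := by rw [← e]; group)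
      simpa using mul_mem g.2 hmem
    · intro hh
      refine Subtype.ext (Units.ext (Matrix.ext_iff_mulVec.2 fun x => ?_))
      show Mat h *ᵥ x = (1 : Matrix ι ι (ZMod 2)) *ᵥ x
      rw [hMat, one_mulVec, ← hsec x, fh_v]
      congr 1
      rw [show cj h (sec x) = ⟨h, hh⟩ * sec x * ⟨h, hh⟩⁻¹ from rfl, map_mul, map_mul, map_inv,
        mul_v, mul_v]
      show (ψ ⟨h, hh⟩).v + (ψ (sec x)).v + (ψ ⟨h, hh⟩).v = (ψ (sec x)).v
      rw [add_comm (ψ ⟨h, hh⟩).v, add_assoc, sp_add_self, add_zero]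
  · show Mat h *ᵥ _ = _
    rw [hMat, fh_v]

/-- Coordinates of the plus type. -/
def plusEquiv : Sp 3 ≃ (Fin 3 ⊕ Fin 3 → ZMod 2) where
  toFun x := Sum.elim (fun i => (x i).1) (fun i => (x i).2)
  invFun v := fun i => (v (.inl i), v (.inr i))
  left_inv _ := rfl
  right_inv v := by funext i; rcases i with i | i <;> rfl

/-- The kinds of plane for the minus type. -/
def tMinus : Fin 3 → Bool := ![false, false, true]

/-- Coordinates of the minus type. -/
def minusEquiv : Sp 3 ≃ (Amalgam.SixMinus.I6 → ZMod 2) where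
  toFun x := Sum.elim (Sum.elim ![(x 0).1, (x 1).1] ![(x 0).2, (x 1).2]) ![(x 2).1, (x 2).2]
  invFun v := ![(v (.inl (.inl 0)), v (.inl (.inr 0))), (v (.inl (.inl 1)), v (.inl (.inr 1))),
    (v (.inr 0), v (.inr 1))]
  left_inv x := by funext i; fin_cases i <;> rfl
  right_inv v := by
    funext i
    rcases i with (i | i) | i <;> fin_cases i <;> rfl

/-- From the standard coordinates. -/
def toV (v : Amalgam.SixMinus.I6 → ZMod 2) : V :=
  ((v (.inl (.inl 0)), v (.inl (.inr 0))), (v (.inl (.inl 1)), v (.inl (.inr 1))),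
    (v (.inr 0), v (.inr 1)))

/-- To the standard coordinates. -/
def ofV (x : V) : Amalgam.SixMinus.I6 → ZMod 2 :=
  minusEquiv ![x.1, x.2.1, x.2.2]

theorem toV_add (v w : Amalgam.SixMinus.I6 → ZMod 2) : toV (v + w) = toV v + toV w := rfl

theorem ofV_toV (v : Amalgam.SixMinus.I6 → ZMod 2) : ofV (toV v) = v := minusEquiv.right_inv v

theorem toV_ofV (x : V) : toV (ofV x) = x := rfl

theorem q2_eq (v : Amalgam.SixMinus.I6 → ZMod 2) : Amalgam.SixMinus.Q2 v = qf (toV v) := by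
  simp only [Cfsg.quadFormMinus, qf, toV, Fin.sum_univ_two, pow_two, z2_sq, one_mul]
  ring

theorem q2_minus (x : Sp 3) : Amalgam.SixMinus.Q2 (minusEquiv x) = beta tMinus x x := by
  simp only [Cfsg.quadFormMinus, beta, loc, Fin.sum_univ_two, Fin.sum_univ_three, tMinus, minusEquiv]
  simp [z2_sq, pow_two]
  ring

theorem sq_count (t : Fin 3 → Bool) : Nat.card {x : ES 3 t // x ^ 2 = 1} =
    Nat.card {p : Sp 3 × ZMod 2 // beta t p.1 p.1 = 0} :=
  Nat.card_congr ((toPair t).subtypeEquiv fun x => by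
    rw [pow_two, sq_eq]
    exact ⟨fun e => congrArg ES.c e, fun e => by
      show (⟨0, beta t x.v x.v⟩ : ES 3 t) = 1
      rw [show beta t x.v x.v = 0 from e]; rfl⟩)

theorem count_plus : Nat.card {p : Sp 3 × ZMod 2 // beta (fun _ => false) p.1 p.1 = 0} = 72 := by
  rw [Nat.card_eq_fintype_card]; decide +kernel

theorem count_minus : Nat.card {p : Sp 3 × ZMod 2 // beta tMinus p.1 p.1 = 0} = 56 := by
  rw [Nat.card_eq_fintype_card]; decide +kernel

theorem exists_data (z : G) (hz : orderOf z = 2)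
    (Q : Subgroup (Subgroup.centralizer ({z} : Set G))) [Q.Normal]
    (hF : Cfsg.generalizedFittingSubgroup (Subgroup.centralizer ({z} : Set G)) = Q)
    (hQ : Cfsg.IsExtraspecial 2 Q) (hcard : Nat.card Q = 2 ^ 7)
    (e : (Subgroup.centralizer ({z} : Set G)) ⧸ Q ≃*
      Cfsg.Omega (ZMod 2) (Cfsg.quadFormMinus 2 (ZMod 2) 1 1)) :
    ∃ φ : G → V, Data z (Q.map (centralizer ({z} : Set G)).subtype) φ := by
  classical
  obtain ⟨Q', hQ'⟩ : ∃ Q', Q' = Q.map (centralizer ({z} : Set G)).subtype := ⟨_, rfl⟩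
  rw [← hQ']
  let eQ : ↥Q ≃* ↥Q' := (Q.equivMapOfInjective _
    (centralizer ({z} : Set G)).subtype_injective).trans (MulEquiv.subgroupCongr hQ'.symm)
  have hQC : Q' ≤ centralizer ({z} : Set G) := hQ' ▸ map_subtype_le _
  have P : Pack Q' z :=
    pack_of_fstar hz hQC (by rw [hF, hQ']) (HJType.extraspecial_of_equiv eQ hQ)
  have hc : Nat.card ↥Q' = 128 := by rw [← Nat.card_congr eQ.toEquiv, hcard]; norm_num
  have hqc : Nat.card ↥(Q'.subgroupOf (centralizer ({z} : Set G))) = 128 := by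
    rw [Nat.card_congr (subgroupOfEquivOfLe hQC).toEquiv, hc]
  have hsub : Q'.subgroupOf (centralizer ({z} : Set G)) = Q := by
    rw [hQ', subgroupOf]; exact comap_map_eq_self_of_injective (subtype_injective _) _
  have hCc : Nat.card ↥(centralizer ({z} : Set G)) = 128 * 25920 := by
    rw [card_eq_card_quotient_mul_card_subgroup Q, hcard, Nat.card_congr e.toEquiv,
      Amalgam.SixMinus.card_omega]
    norm_num
  -- order of the image
  have hrange : ∀ {ι : Type} [Fintype ι] [DecidableEq ι] {f : (ι → ZMod 2) → ZMod 2}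
      (π : ↥(centralizer ({z} : Set G)) →* Cfsg.isometryGroup (ZMod 2) f),
      π.ker = Q'.subgroupOf (centralizer ({z} : Set G)) → Nat.card ↥π.range = 25920 := by
    intro ι _ _ f π hk
    have h1 := card_eq_card_quotient_mul_card_subgroup π.ker
    rw [Nat.card_congr (QuotientGroup.quotientKerEquivRange π).toEquiv, hk, hqc, hCc] at h1
    omega
  -- the type
  obtain ⟨t, ht, ⟨ψ⟩⟩ : ∃ t, t = tMinus ∧ Nonempty (↥Q' ≃* ES 3 t) := by
    have hI := StructC.EsCount.invCount_formula P.ext 128 ⊤ CfsgLib.Transfer.isEsGood_top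
      (by rw [card_top, hc])
    obtain ⟨m, hm, hI⟩ := hI
    have hm3 : m = 3 := by
      have : 2 * m + 1 = 7 := Nat.pow_right_injective le_rfl (hm.symm.trans (by norm_num))
      omega
    subst hm3
    have key : ∀ t : Fin 3 → Bool,
        StructC.EsCount.invCount (⊤ : Subgroup ↥Q') = Nat.card {x : ES 3 t // x ^ 2 = 1} →
        Nonempty (↥Q' ≃* ES 3 t) := by
      intro t hcnt
      rw [← StructC.EsCount.invCount_top (E := ES 3 t)] at hcnt
      obtain ⟨i⟩ := StructC.EsCount.iso_of_invCount P.ext (isExtraspecial_ES t (by norm_num)) 128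
        ⊤ ⊤ CfsgLib.Transfer.isEsGood_top CfsgLib.Transfer.isEsGood_top (by rw [card_top, hc])
        (by rw [card_top, card_ES]; norm_num) hcnt
      exact ⟨topEquiv.symm.trans (i.trans topEquiv)⟩
    rcases hI with h72 | h56
    · exfalso
      obtain ⟨i⟩ := key (fun _ => false) (by
        rw [sq_count, count_plus]
        norm_num at h72; exact_mod_cast h72)
      obtain ⟨π, hk, -⟩ := exists_rep P i (Cfsg.quadFormPlus 3 (ZMod 2)) plusEquiv
        (fun x y => by funext j; rcases j with j | j <;> rfl)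
        (fun x => by simp [Cfsg.quadFormPlus, plusEquiv, beta, loc]; rfl)
      have h1 := card_subgroup_dvd_card π.range
      rw [hrange π hk, Classical.card_isometryGroup_eq _ (Classical.qfPlus 3 (ZMod 2))
        (fun v => congrFun (Classical.qfPlus_coe 3) v), Classical.card_qfPlus_isoms 2, ZMod.card,
        Finset.prod_range_succ, Finset.prod_range_one] at h1
      norm_num at h1
    · refine ⟨tMinus, rfl, key tMinus ?_⟩
      rw [sq_count, count_minus]
      norm_num at h56; exact_mod_cast h56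
  subst ht
  obtain ⟨π, hk, hπ⟩ := exists_rep P ψ Amalgam.SixMinus.Q2 minusEquiv
    (fun x y => by funext j; rcases j with (j | j) | j <;> fin_cases j <;> rfl) q2_minus
  have hidx : π.range.index = 2 := by
    have h1 := π.range.card_mul_index
    rw [hrange π hk, Amalgam.SixMinus.card_O2] at h1
    omega
  let φ : G → V := fun x => if hx : x ∈ Q' then toV (minusEquiv (ψ ⟨x, hx⟩).v) else 0
  have φm : ∀ {x : G} (hx : x ∈ Q'), φ x = toV (minusEquiv (ψ ⟨x, hx⟩).v) := fun hx => dif_pos hx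
  have φ0 : ∀ {x : G} (hx : x ∈ Q'), φ x = 0 ↔ (ψ ⟨x, hx⟩).v = 0 := by
    intro x hx
    rw [φm hx]
    constructor
    · intro h
      have h' := congrArg ofV h
      rw [ofV_toV] at h'
      apply minusEquiv.injective
      rw [h']; decide
    · intro h; rw [h]; decide
  have hcen : ∀ {x : G} (hx : x ∈ Q'), (ψ ⟨x, hx⟩).v = 0 → x = 1 ∨ x = z := by
    intro x hx h
    exact P.eq_of_central hx fun b hb => congrArg Subtype.val
      (ψ.injective (by
        rw [map_mul, map_mul]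
        exact (comm_iff _ _ _).2 (by simp [h, alt])) :
        (⟨x, hx⟩ : ↥Q') * ⟨b, hb⟩ = ⟨b, hb⟩ * ⟨x, hx⟩)
  have hzpsi : ψ ⟨z, P.mem⟩ = ⟨0, 1⟩ := by
    have hv : (ψ ⟨z, P.mem⟩).v = 0 := (mem_center_iff _ _).1 (Subgroup.mem_center_iff.2 fun y => by
      rw [← ψ.apply_symm_apply y, ← map_mul, ← map_mul]
      exact congrArg ψ (Subtype.ext (P.comm_z (ψ.symm y).2)))
    rcases z2_cases (ψ ⟨z, P.mem⟩).c with e | e
    · exfalso
      have h1 : ψ ⟨z, P.mem⟩ = 1 := ES.ext hv e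
      exact P.z_ne (congrArg Subtype.val ((map_eq_one_iff ψ ψ.injective).1 h1))
    · exact ES.ext hv e
  have hzp : ∀ c : ZMod 2, ∃ hm : zp z c ∈ Q', ψ ⟨zp z c, hm⟩ = ⟨0, c⟩ := by
    intro c
    rcases z2_cases c with rfl | rfl
    · exact ⟨by rw [zp_zero]; exact one_mem _, by
        have : (⟨zp z 0, by rw [zp_zero]; exact one_mem _⟩ : ↥Q') = 1 := Subtype.ext (zp_zero z)
        rw [this, map_one]; rfl⟩
    · exact ⟨by rw [zp_one]; exact P.mem, hzpsi⟩
  refine ⟨φ,
    { pack := P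
      cardC := hCc
      hadd := fun a ha b hb => ?_
      hsurj := fun v => ?_
      hzero := fun a ha h => hcen ha ((φ0 ha).1 h)
      hz := (φ0 P.mem).2 (by rw [hzpsi])
      hsq := fun a ha => ?_
      hcomm := fun a ha b hb => ?_
      hker := fun h hh H => ?_
      hrefl := fun a b ha hb hab => ?_ }⟩
  · rw [φm (mul_mem ha hb), φm ha, φm hb, ← toV_add]
    congr 1
    rw [show (⟨a * b, mul_mem ha hb⟩ : ↥Q') = ⟨a, ha⟩ * ⟨b, hb⟩ from rfl, map_mul, mul_v]
    funext j; rcases j with (j | j) | j <;> fin_cases j <;> rfl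
  · refine ⟨(ψ.symm ⟨minusEquiv.symm (ofV v), 0⟩ : ↥Q'), SetLike.coe_mem _, ?_⟩
    rw [φm (SetLike.coe_mem _), Subtype.coe_eta, MulEquiv.apply_symm_apply,
      Equiv.apply_symm_apply, toV_ofV]
  · obtain ⟨hm, hzc⟩ := hzp (qf (φ a))
    refine congrArg Subtype.val (ψ.injective ?_ : (⟨a, ha⟩ : ↥Q') * ⟨a, ha⟩ = ⟨_, hm⟩)
    rw [map_mul, sq_eq, hzc, φm ha, ← q2_eq, q2_minus]
  · obtain ⟨hm, hzc⟩ := hzp (bf (φ a) (φ b))
    refine congrArg Subtype.val (ψ.injective ?_ :
      (⟨a, ha⟩ : ↥Q') * ⟨b, hb⟩ = ⟨b, hb⟩ * ⟨a, ha⟩ * ⟨_, hm⟩)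
    rw [map_mul, map_mul, map_mul, hzc]
    have e1 : bf (φ a) (φ b) = alt (ψ ⟨a, ha⟩).v (ψ ⟨b, hb⟩).v := by
      rw [φm ha, φm hb]
      simp [bf, toV, minusEquiv, alt, Fin.sum_univ_three]
    refine ES.ext ?_ ?_
    · simp only [mul_v, add_zero, add_comm]
    · simp only [mul_c, mul_v, beta_zero_right, add_zero]
      rw [e1, ← beta_symm tMinus]
      generalize (ψ ⟨a, ha⟩).c = p; generalize (ψ ⟨b, hb⟩).c = r
      generalize beta tMinus (ψ ⟨a, ha⟩).v (ψ ⟨b, hb⟩).v = s
      generalize beta tMinus (ψ ⟨b, hb⟩).v (ψ ⟨a, ha⟩).v = u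
      revert p r s u; decide
  · have hC : h ∈ centralizer ({z} : Set G) := mem_centralizer_singleton_iff.2 hh
    suffices hk' : (⟨h, hC⟩ : ↥(centralizer ({z} : Set G))) ∈ π.ker by
      rw [hk] at hk'; exact hk'
    rw [MonoidHom.mem_ker]
    refine Subtype.ext (Units.ext (Matrix.ext_iff_mulVec.2 fun x => ?_))
    show _ = (1 : Matrix _ _ (ZMod 2)) *ᵥ x
    rw [one_mulVec]
    obtain ⟨q, rfl⟩ : ∃ q : ↥Q', minusEquiv (ψ q).v = x :=
      ⟨ψ.symm ⟨minusEquiv.symm x, 0⟩, by rw [MulEquiv.apply_symm_apply, Equiv.apply_symm_apply]⟩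
    have hn : h * q * h⁻¹ ∈ Q' := (mem_normalizer_iff.1 (P.norm hC) q).1 q.2
    rw [hπ ⟨h, hC⟩ q hn]
    have := H q q.2
    rw [φm hn, φm q.2] at this
    exact (ofV_toV _).symm.trans ((congrArg ofV this).trans (ofV_toV _))
  · -- two non-orthogonal reflections are in the image
    have mk : ∀ c : V, qf c = 1 → ∃ g : Cfsg.isometryGroup (ZMod 2) Amalgam.SixMinus.Q2,
        ∀ x, ((g : GL Amalgam.SixMinus.I6 (ZMod 2)) :
          Matrix Amalgam.SixMinus.I6 Amalgam.SixMinus.I6 (ZMod 2)) *ᵥ x = ofV (rf c (toV x)) :=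
      fun c hc' => exists_iso_fun Amalgam.SixMinus.Q2 (fun x => ofV (rf c (toV x)))
        (fun x y => by
          show ofV (rf c (toV (x + y))) = ofV (rf c (toV x)) + ofV (rf c (toV y))
          rw [toV_add, rf_add]
          funext j; rcases j with (j | j) | j <;> fin_cases j <;> rfl)
        (fun x => by show ofV (rf c (toV (ofV (rf c (toV x))))) = x; rw [toV_ofV, rf_rf, ofV_toV])
        (fun x => by rw [q2_eq, q2_eq, toV_ofV, rf_qf hc'])
    obtain ⟨ga, hga⟩ := mk a ha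
    obtain ⟨gb, hgb⟩ := mk b hb
    have hcq : qf (a + b) = 1 := by rw [qf_add, ha, hb, hab]; decide
    obtain ⟨gc, hgc⟩ := mk (a + b) hcq
    have hba : rf (a + b) a = b := by
      rw [rf, if_pos (by rw [bf_add_left, bf_self, bf_symm b, hab, zero_add]), ← add_assoc, v_self,
        zero_add]
    have hconj : gb = gc * ga * gc := Subtype.ext (Units.ext (Matrix.ext_iff_mulVec.2 fun x => by
      simp only [Subgroup.coe_mul, Units.val_mul, ← mulVec_mulVec, hga, hgb, hgc, toV_ofV]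
      rw [← rf_conj hcq, hba]))
    have hmem : ga * gb ∈ π.range := by
      have h1 : ga * gb = ga * gc * (ga * gc) := by rw [hconj]; group
      rw [h1]; exact Subgroup.mul_self_mem_of_index_two hidx _
    obtain ⟨h, hh⟩ := hmem
    refine ⟨h, mem_centralizer_singleton_iff.1 h.2, fun q hq => ?_⟩
    have hn : (h : G) * q * (h : G)⁻¹ ∈ Q' := (mem_normalizer_iff.1 (P.norm h.2) q).1 hq
    rw [φm hn, φm hq, ← hπ h ⟨q, hq⟩ hn, hh]
    simp only [Subgroup.coe_mul, Units.val_mul, ← mulVec_mulVec, hga, hgb, toV_ofV]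

end CfsgLib.InvChar.SuzType
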