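import Cfsg.Agent.Lib.InvChar.SuzType.Data

/-!
Two commuting conjugates `z`, `u` of a central involution of Suzuki type with `u ∈ Q_z`: the product
of `C_{Q_z}(u)` and `C_{Q_u}(z)` is parametrised by two copies of the space `e1⊥ / e1`.
-/

set_option autoImplicit false
set_option linter.unusedSectionVars false

namespace CfsgLib.InvChar.SuzType

open Subgroup CfsgLib.PLocal.LargeExtra

theorem qf_congr {x d : V} (hx : bf x e1 = 0) (hd : bf d e1 = 0) (h : x.2 = d.2) : qf x = qf d := by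
  rcases snd_congr x d hx hd h with rfl | rfl
  · rfl
  · rw [qf_add, base_facts.1, hd, add_zero, add_zero]

theorem bf_congr {x c d : V} (hx : bf x e1 = 0) (hc : bf c e1 = 0) (hd : bf d e1 = 0)
    (h : c.2 = d.2) : bf x c = bf x d := by
  rcases snd_congr c d hc hd h with rfl | rfl
  · rfl
  · rw [bf_add_right, hx, add_zero]

theorem perp_add {x y : V} (hx : bf x e1 = 0) (hy : bf y e1 = 0) : bf (x + y) e1 = 0 := by
  rw [bf_add_left, hx, hy, add_zero]

theorem e1_perp : bf e1 e1 = 0 := bf_self _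

/-- An isometry fixing `e1` and trivial on `e1⊥ / e1`. -/
structure IsRad (f : V → V) : Prop where
  add : ∀ x y, f (x + y) = f x + f y
  pres : ∀ x, qf (f x) = qf x
  fix : f e1 = e1
  triv : ∀ x, bf x e1 = 0 → (f x).2 = x.2

/-- The parameter of a map of `IsRad`. -/
def cvec (f : V → V) : V := f f1 + f1

namespace IsRad

variable {f g : V → V} (hf : IsRad f) (hg : IsRad g)
include hf

theorem pres_bf (x y : V) : bf (f x) (f y) = bf x y := by
  have h1 := qf_add (f x) (f y)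
  rw [← hf.add, hf.pres, hf.pres, hf.pres, qf_add] at h1
  exact (add_left_cancel h1).symm

theorem cvec_perp : bf (cvec f) e1 = 0 := by
  rw [cvec, bf_add_left, base_facts.2.2.2.1]
  conv_lhs => rw [← hf.fix]
  rw [hf.pres_bf, base_facts.2.2.2.1]
  exact z2_self 1

theorem apply_perp {x : V} (hx : bf x e1 = 0) : f x = x + sm (bf x (cvec f)) e1 := by
  have hfx : bf (f x) e1 = 0 := by
    conv_lhs => rw [← hf.fix]
    rw [hf.pres_bf, hx]
  have h := hf.pres_bf x f1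
  have hf1 : f f1 = f1 + cvec f := by rw [cvec, add_comm (f f1), ← add_assoc, v_self, zero_add]
  rcases snd_congr (f x) x hfx hx (hf.triv x hx) with e | e <;> rw [e, hf1] at h <;> rw [e]
  · rw [bf_add_right, add_eq_left] at h
    simp [h, sm]
  · rw [bf_add_right, bf_add_left, bf_add_left, bf_symm e1 (cvec f), hf.cvec_perp, add_zero,
      base_facts.2.2.1] at h
    rcases z2_cases' (bf x f1) with e1' | e1' <;> rcases z2_cases' (bf x (cvec f)) with e2 | e2 <;>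
      rw [e1', e2] at h <;> first | (exact absurd h (by decide)) | simp [e2, sm]

include hg

theorem eq_of_cvec (h : (cvec f).2 = (cvec g).2) (x : V) : f x = g x := by
  have hperp : ∀ y, bf y e1 = 0 → f y = g y := fun y hy => by
    rw [hf.apply_perp hy, hg.apply_perp hy, bf_congr hy hf.cvec_perp hg.cvec_perp h]
  have h1 : f f1 = g f1 := by
    rcases snd_congr _ _ hf.cvec_perp hg.cvec_perp h with e | e
    · exact add_right_cancel e
    · exfalso
      have e' : f f1 = g f1 + e1 := by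
        have := congrArg (· + f1) e
        simp only [cvec, add_assoc, v_self, add_zero] at this
        rw [this, add_left_comm (f1) e1 f1, v_self, add_zero]
      have h2 := hf.pres f1
      rw [e', qf_add, hg.pres, base_facts.1, base_facts.2.1, zero_add, zero_add,
        ← hg.fix, hg.pres_bf, base_facts.2.2.2.1] at h2
      exact one_ne_zero h2
  rcases z2_cases' (bf x e1) with hx | hx
  · exact hperp x hx
  · have := hperp (x + f1) (by rw [bf_add_left, hx, base_facts.2.2.2.1]; decide)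
    rw [hf.add, hg.add, h1] at this
    exact add_right_cancel this

end IsRad

theorem isRad_id : IsRad (fun x => x) := ⟨fun _ _ => rfl, fun _ => rfl, rfl, fun _ _ => rfl⟩

variable {G : Type*} [Group G]

/-- Two commuting conjugates, each in the extraspecial group of the other, with coordinates. -/
structure Pair (z u : G) (Q Q' : Subgroup G) (φ φ' : G → V) : Prop where
  S : Data z Q φ
  T : Data u Q' φ'
  mem : u ∈ Q
  mem' : z ∈ Q'
  he : φ u = e1
  he' : φ' z = e1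
  conj : ∃ g : G, g * z * g⁻¹ = u ∧ Q' = Q.map (MulAut.conj g).toMonoidHom

namespace Pair

variable [Finite G] {z u : G} {Q Q' : Subgroup G} {φ φ' : G → V} (P : Pair z u Q Q' φ φ')

theorem symm (P : Pair z u Q Q' φ φ') : Pair u z Q' Q φ' φ := by
  refine ⟨P.T, P.S, P.mem', P.mem, P.he', P.he, ?_⟩
  obtain ⟨g, e, e'⟩ := P.conj
  refine ⟨g⁻¹, by rw [← e]; group, ?_⟩
  rw [e', Subgroup.map_map]
  conv_lhs => rw [← Subgroup.map_id Q]
  congr 1
  ext x; simp [mul_assoc]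

/-- A member of `Q` above `f1`. -/
noncomputable def yv (P : Pair z u Q Q' φ φ') : G := (P.S.hsurj f1).choose

include P

theorem yv_mem : P.yv ∈ Q := (P.S.hsurj f1).choose_spec.1

theorem yv_phi : φ P.yv = f1 := (P.S.hsurj f1).choose_spec.2

theorem zu : z * u = u * z := (P.S.commQ P.mem).symm

theorem une : u ≠ z := fun e => by
  have h := P.he
  rw [e, P.S.hz] at h
  exact base_facts.2.2.2.2.2.2.2.2.2.2.1 h.symm

theorem zu_ne : z * u ≠ 1 := fun e => P.une (by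
  rw [← mul_left_cancel_iff (a := z), e, P.S.zz])

/-- Membership of the four group `{1, z, u, zu}`. -/
def InR (_ : Pair z u Q Q' φ φ') (x : G) : Prop := x = 1 ∨ x = z ∨ x = u ∨ x = z * u

theorem InR.exists_zp {x : G} (h : P.InR x) : ∃ i j : ZMod 2, x = zp z i * zp u j := by
  rcases h with e | e | e | e
  · exact ⟨0, 0, by rw [e, zp_zero, zp_zero, mul_one]⟩
  · exact ⟨1, 0, by rw [e, zp_one, zp_zero, mul_one]⟩
  · exact ⟨0, 1, by rw [e, zp_zero, zp_one, one_mul]⟩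
  · exact ⟨1, 1, by rw [e, zp_one, zp_one]⟩

theorem inR_zp (i j : ZMod 2) : P.InR (zp z i * zp u j) := by
  rcases z2_cases' i with rfl | rfl <;> rcases z2_cases' j with rfl | rfl <;>
    simp [InR, zp_one, zp_zero]

theorem phi_zp (i j : ZMod 2) : φ (zp z i * zp u j) = sm j e1 := by
  rcases z2_cases' i with rfl | rfl <;> rcases z2_cases' j with rfl | rfl <;>
    simp only [zp_one, zp_zero, one_mul, mul_one, sm, zero_ne_one, if_false, if_true]
  · exact P.S.phi_one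
  · exact P.he
  · exact P.S.hz
  · rw [P.zu, P.S.phi_mul_z P.mem, P.he]

theorem InR.phi_snd {x : G} (h : P.InR x) : (φ x).2 = 0 ∧ bf (φ x) e1 = 0 := by
  obtain ⟨i, j, rfl⟩ := InR.exists_zp P h
  rw [P.phi_zp]
  rcases z2_cases' j with rfl | rfl
  · simp [sm, zero_bf]
  · refine ⟨?_, ?_⟩
    · simp [sm]; rfl
    · simpa [sm] using e1_perp

theorem InR.symm_iff {x : G} : P.InR x ↔ P.symm.InR x := by
  unfold InR
  rw [P.zu]
  tauto

theorem comm_u {a : G} (ha : a ∈ Q) : a * u = u * a ↔ bf (φ a) e1 = 0 := by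
  rw [P.S.commute_iff ha P.mem, P.he]

theorem y_u : P.yv * u * P.yv⁻¹ = u * z :=
  P.S.conj_z_of P.yv_mem P.mem (by rw [P.yv_phi, P.he, base_facts.2.2.2.1])

/-- Correcting an element fixing `e1` so that it fixes `u`. -/
theorem exists_fix {h : G} (hh : h * z = z * h) (he1 : act Q φ h e1 = e1) :
    ∃ k : G, k * z = z * k ∧ k * u = u * k ∧ ∀ x, act Q φ k x = act Q φ h x := by
  have hφ : φ (h * u * h⁻¹) = φ u := by rw [← P.S.act_phi hh P.mem, P.he, he1]
  rcases P.S.phi_eq (P.S.norm hh P.mem) P.mem hφ with e | e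
  · exact ⟨h, hh, by rwa [mul_inv_eq_iff_eq_mul] at e, fun x => rfl⟩
  · refine ⟨P.yv * h, by rw [mul_assoc, hh, ← mul_assoc, P.S.commQ P.yv_mem, mul_assoc], ?_,
      fun x => by rw [P.S.act_mul (P.S.commQ P.yv_mem) hh, P.S.act_of_mem P.yv_mem]⟩
    rw [← mul_inv_eq_iff_eq_mul]
    calc P.yv * h * u * (P.yv * h)⁻¹ = P.yv * (h * u * h⁻¹) * P.yv⁻¹ := by group
      _ = P.yv * u * P.yv⁻¹ * (P.yv * z * P.yv⁻¹) := by rw [e]; group
      _ = u := by rw [P.y_u, P.S.conjZ (P.S.commQ P.yv_mem), mul_assoc, P.S.zz, mul_one]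

theorem inter {x : G} (hx : x ∈ Q) (hx' : x ∈ Q') : P.InR x := by
  have hsq : x * x = 1 := by
    have h1 := P.S.hsq x hx
    rw [P.T.hsq x hx'] at h1
    rcases z2_cases' (qf (φ' x)) with e | e
    · rw [P.T.hsq x hx', e, zp_zero]
    · exfalso
      rw [e, zp_one] at h1
      rcases z2_cases' (qf (φ x)) with e' | e' <;> rw [e'] at h1
      · exact P.T.zne (h1.trans (zp_zero z))
      · exact P.une (h1.trans (zp_one z))
  have hq := P.S.sing_of_invol hx hsq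
  have hperp : bf (φ x) e1 = 0 := (P.comm_u hx).1 (P.T.commQ hx')
  have h0 : (φ x).2 = 0 := by
    by_contra h0
    obtain ⟨a, b, hae, hbe, ha, hb, hab, hw⟩ := move_line (φ x) hperp hq h0
    obtain ⟨h, hh, hh'⟩ := P.S.hrefl a b ha hb hab
    have hact : ∀ v, act Q φ h v = rf a (rf b v) :=
      P.S.act_eq hh (f := fun v => rf a (rf b v)) hh'
    obtain ⟨k, hk, hku, hk'⟩ := P.exists_fix hh (by
      rw [hact, show rf b e1 = e1 from if_neg (by rw [hbe]; decide),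
        show rf a e1 = e1 from if_neg (by rw [hae]; decide)])
    have hy : k * x * k⁻¹ ∈ Q := P.S.norm hk hx
    have hy' : k * x * k⁻¹ ∈ Q' := P.T.norm hku hx'
    have hyq : k * x * k⁻¹ * (k * x * k⁻¹) = 1 := by
      rw [show k * x * k⁻¹ * (k * x * k⁻¹) = k * (x * x) * k⁻¹ by group, hsq]; group
    have hsq2 : x * (k * x * k⁻¹) * (x * (k * x * k⁻¹)) = 1 := by
      have h1 := P.S.hsq _ (mul_mem hx hy)
      have h2 := P.T.hsq _ (mul_mem hx' hy')
      rw [h2] at h1 ⊢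
      rcases z2_cases' (qf (φ' (x * (k * x * k⁻¹)))) with e | e
      · rw [e, zp_zero]
      · exfalso
        rw [e, zp_one] at h1
        rcases z2_cases' (qf (φ (x * (k * x * k⁻¹)))) with e' | e' <;> rw [e'] at h1
        · exact P.T.zne (h1.trans (zp_zero z))
        · exact P.une (h1.trans (zp_one z))
    have hq2 := P.S.sing_of_invol (mul_mem hx hy) hsq2
    rw [P.S.hadd x hx _ hy, qf_add, hq, P.S.sing_of_invol hy hyq, ← P.S.act_phi hk hx, hk', hact,
      zero_add, zero_add, hw] at hq2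
    exact one_ne_zero hq2
  rcases z_or_e1 (φ x) hperp h0 with e | e
  · rcases P.S.hzero x hx e with e' | e'
    · exact Or.inl e'
    · exact Or.inr (Or.inl e')
  · rcases P.S.phi_eq hx P.mem (e.trans P.he.symm) with e' | e'
    · exact Or.inr (Or.inr (Or.inl e'))
    · exact Or.inr (Or.inr (Or.inr (by rw [P.zu]; exact e')))

theorem comm_mem {a b : G} (ha : a ∈ Q) (hau : a * u = u * a) (hb : b ∈ Q') (hbz : b * z = z * b) :
    a * b * a⁻¹ * b⁻¹ ∈ Q ∧ a * b * a⁻¹ * b⁻¹ ∈ Q' := by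
  refine ⟨?_, ?_⟩
  · rw [show a * b * a⁻¹ * b⁻¹ = a * (b * a⁻¹ * b⁻¹) by group]
    exact mul_mem ha (P.S.norm hbz (inv_mem ha))
  · exact mul_mem (P.T.norm hau hb) (inv_mem hb)

theorem isRad {b : G} (hb : b ∈ Q') (hbz : b * z = z * b) : IsRad (act Q φ b) := by
  refine ⟨P.S.act_add hbz, P.S.act_qf hbz, ?_, fun x hx => ?_⟩
  · rw [← P.he, P.S.act_phi hbz P.mem]
    congr 1
    rw [P.T.commQ hb, mul_inv_cancel_right]
  · obtain ⟨a, ha, rfl⟩ := P.S.hsurj x
    obtain ⟨h1, h2⟩ := P.comm_mem ha ((P.comm_u ha).2 hx) hb hbz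
    have hr := InR.phi_snd P (P.inter h1 h2)
    rw [P.S.act_phi hbz ha]
    have e : φ (a * b * a⁻¹ * b⁻¹) = φ a + φ (b * a * b⁻¹) := by
      rw [show a * b * a⁻¹ * b⁻¹ = a * (b * a⁻¹ * b⁻¹) by group,
        P.S.hadd a ha _ (P.S.norm hbz (inv_mem ha)),
        show b * a⁻¹ * b⁻¹ = (b * a * b⁻¹)⁻¹ by group, P.S.phi_inv (P.S.norm hbz ha)]
    have h := hr.1
    rw [e, Prod.snd_add] at h
    calc (φ (b * a * b⁻¹)).2 = (φ a).2 + ((φ a).2 + (φ (b * a * b⁻¹)).2) := by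
          rw [← add_assoc, ← Prod.snd_add, v_self]; simp
      _ = (φ a).2 := by rw [h, add_zero]

/-- The parameter of a member of `C_{Q'}(z)`. -/
noncomputable def ww (_ : Pair z u Q Q' φ φ') (b : G) : V := cvec (act Q φ b)

theorem ww_perp {b : G} (hb : b ∈ Q') (hbz : b * z = z * b) : bf (P.ww b) e1 = 0 :=
  (P.isRad hb hbz).cvec_perp

theorem act_perp {b : G} (hb : b ∈ Q') (hbz : b * z = z * b) {x : V} (hx : bf x e1 = 0) :
    act Q φ b x = x + sm (bf x (P.ww b)) e1 := (P.isRad hb hbz).apply_perp hx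

theorem cc_mem {b : G} (hbz : b * z = z * b) : P.yv * b * P.yv⁻¹ * b⁻¹ ∈ Q := by
  rw [show P.yv * b * P.yv⁻¹ * b⁻¹ = P.yv * (b * P.yv⁻¹ * b⁻¹) by group]
  exact mul_mem P.yv_mem (P.S.norm hbz (inv_mem P.yv_mem))

theorem cc_phi {b : G} (hbz : b * z = z * b) : φ (P.yv * b * P.yv⁻¹ * b⁻¹) = P.ww b := by
  rw [show P.yv * b * P.yv⁻¹ * b⁻¹ = P.yv * (b * P.yv⁻¹ * b⁻¹) by group,
    P.S.hadd _ P.yv_mem _ (P.S.norm hbz (inv_mem P.yv_mem)),
    ← P.S.act_phi hbz (inv_mem P.yv_mem), P.S.phi_inv P.yv_mem, P.yv_phi, ww, cvec, add_comm]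

theorem cc_u {b : G} (hb : b ∈ Q') (hbz : b * z = z * b) :
    P.yv * b * P.yv⁻¹ * b⁻¹ * u = u * (P.yv * b * P.yv⁻¹ * b⁻¹) :=
  (P.comm_u (P.cc_mem hbz)).2 (by rw [P.cc_phi hbz]; exact P.ww_perp hb hbz)

theorem mem_of_ww {b : G} (hb : b ∈ Q') (hbz : b * z = z * b) (h : (P.ww b).2 = 0) : P.InR b := by
  refine P.inter (P.S.mem_of_act_id hbz fun x => ?_) hb
  refine (P.isRad hb hbz).eq_of_cvec isRad_id ?_ x
  rw [show cvec (fun x : V => x) = f1 + f1 from rfl, v_self]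
  exact h

theorem ww_mul {b b' : G} (hb : b ∈ Q') (hbz : b * z = z * b) (hb' : b' ∈ Q')
    (hbz' : b' * z = z * b') : (P.ww (b * b')).2 = (P.ww b).2 + (P.ww b').2 := by
  have e : P.ww (b * b') = P.ww b + act Q φ b (P.ww b') := by
    rw [ww, ww, ww, cvec, cvec, cvec, P.S.act_mul hbz hbz', P.S.act_add hbz,
      add_comm (act Q φ b (act Q φ b' f1)) (act Q φ b f1), ← add_assoc,
      add_right_comm (act Q φ b f1) f1, v_self, zero_add]
    exact add_comm _ _
  rw [e, Prod.snd_add, (P.isRad hb hbz).triv _ (P.ww_perp hb' hbz')]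

/-- The third group, containing `u` with central involution `y u y⁻¹`. -/
theorem third : Pair u (P.yv * u * P.yv⁻¹) Q' (Q'.map (MulAut.conj P.yv).toMonoidHom) φ'
    (fun x => φ' (P.yv⁻¹ * x * P.yv)) := by
  have hu : P.yv * (u * z) * P.yv⁻¹ = u := by
    rw [show P.yv * (u * z) * P.yv⁻¹ = P.yv * u * P.yv⁻¹ * (P.yv * z * P.yv⁻¹) by group, P.y_u,
      P.S.conjZ (P.S.commQ P.yv_mem), mul_assoc, P.S.zz, mul_one]
  refine ⟨P.T, P.T.map P.yv, by rw [P.y_u]; exact mul_mem P.T.zQ P.mem',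
    ⟨u * z, mul_mem P.T.zQ P.mem', hu⟩, ?_, ?_, P.yv, rfl, rfl⟩
  · rw [P.y_u, P.T.hadd u P.T.zQ z P.mem', P.T.hz, P.he', zero_add]
  · show φ' _ = e1
    have e : P.yv⁻¹ * u * P.yv = u * z := by
      calc P.yv⁻¹ * u * P.yv = P.yv⁻¹ * (P.yv * (u * z) * P.yv⁻¹) * P.yv := by rw [hu]
        _ = u * z := by group
    rw [e, P.T.hadd u P.T.zQ z P.mem', P.T.hz, P.he', zero_add]

theorem third_eq : Q'.map (MulAut.conj P.yv).toMonoidHom =
    Q.map (MulAut.conj P.symm.yv).toMonoidHom := by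
  obtain ⟨g, e, e'⟩ := P.conj
  refine (congrArg (Subgroup.map (MulAut.conj P.yv).toMonoidHom) e').trans ?_
  rw [Subgroup.map_map, show (MulAut.conj P.yv).toMonoidHom.comp (MulAut.conj g).toMonoidHom =
    (MulAut.conj (P.yv * g)).toMonoidHom by ext x; simp [mul_assoc]]
  refine P.S.pack.map_eq_of_eq ?_
  rw [show P.yv * g * z * (P.yv * g)⁻¹ = P.yv * (g * z * g⁻¹) * P.yv⁻¹ by group, e, P.y_u,
    P.symm.y_u, P.zu]

theorem key {b : G} (hb : b ∈ Q') (hbz : b * z = z * b) :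
    (P.symm.ww (P.yv * b * P.yv⁻¹ * b⁻¹)).2 = (φ' b).2 := by
  set a := P.yv * b * P.yv⁻¹ * b⁻¹ with ha_def
  set y' := P.symm.yv with hy'
  have ha : a ∈ Q := P.cc_mem hbz
  have hau : a * u = u * a := P.cc_u hb hbz
  have hn' : y' * a * y'⁻¹ * a⁻¹ ∈ Q' := P.symm.cc_mem hau
  have h1 : y' * a * y'⁻¹ * a⁻¹ * (a * b⁻¹ * a⁻¹) ∈ Q'.map (MulAut.conj P.yv).toMonoidHom := by
    rw [show y' * a * y'⁻¹ * a⁻¹ * (a * b⁻¹ * a⁻¹) = y' * a * y'⁻¹ * (a * b)⁻¹ by group]
    refine mul_mem ?_ (inv_mem ?_)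
    · rw [P.third_eq]; exact ⟨a, ha, rfl⟩
    · exact ⟨b, hb, by simp [ha_def]⟩
  have h2 : y' * a * y'⁻¹ * a⁻¹ * (a * b⁻¹ * a⁻¹) ∈ Q' :=
    mul_mem hn' (P.T.norm hau (inv_mem hb))
  have hr := InR.phi_snd P.third (P.third.inter h2 h1)
  have hc := P.comm_mem ha hau (inv_mem hb) (by
    rw [← mul_inv_eq_iff_eq_mul, inv_inv]
    calc b⁻¹ * z * b = b⁻¹ * (b * z) := by rw [hbz]; group
      _ = z := by group)
  have hr2 := InR.phi_snd P.symm ((InR.symm_iff P).1 (P.inter hc.1 hc.2))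
  have e1' : φ' (a * b⁻¹ * a⁻¹) = φ' (a * b⁻¹ * a⁻¹ * b⁻¹⁻¹) + φ' b⁻¹ := by
    rw [← P.T.hadd _ hc.2 _ (inv_mem hb)]; congr 1; group
  have h := hr.1
  rw [P.T.hadd _ hn' _ (P.T.norm hau (inv_mem hb)), e1', P.T.phi_inv hb, Prod.snd_add,
    Prod.snd_add, hr2.1, zero_add, P.symm.cc_phi hau] at h
  calc (P.symm.ww a).2 = (P.symm.ww a).2 + ((φ' b).2 + (φ' b).2) := by
        rw [← Prod.snd_add, v_self]; simp
    _ = (φ' b).2 := by rw [← add_assoc, h, zero_add]

theorem comm_pre {a b : G} (ha : a ∈ Q) (hau : a * u = u * a) (hb : b ∈ Q')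
    (hbz : b * z = z * b) :
    a * b * a⁻¹ * b⁻¹ =
      zp z (bf (φ' b) (P.symm.ww a)) * zp u (bf (φ a) (P.ww b)) := by
  obtain ⟨h1, h2⟩ := P.comm_mem ha hau hb hbz
  obtain ⟨i, j, e⟩ := InR.exists_zp P (P.inter h1 h2)
  have hperp : bf (φ a) e1 = 0 := (P.comm_u ha).1 hau
  have hperp' : bf (φ' b) e1 = 0 := (P.symm.comm_u hb).1 hbz
  have hinj : ∀ i j : ZMod 2, sm i e1 = sm j e1 → i = j := by decide +kernel
  have hj : j = bf (φ a) (P.ww b) := by
    refine hinj _ _ ?_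
    rw [← P.phi_zp i j, ← e,
      show a * b * a⁻¹ * b⁻¹ = a * (b * a⁻¹ * b⁻¹) by group,
      P.S.hadd a ha _ (P.S.norm hbz (inv_mem ha)), ← P.S.act_phi hbz (inv_mem ha), P.S.phi_inv ha,
      P.act_perp hb hbz hperp, ← add_assoc, v_self, zero_add]
  have hi : i = bf (φ' b) (P.symm.ww a) := by
    refine hinj _ _ ?_
    have e2 : b * a * b⁻¹ * a⁻¹ = zp u j * zp z i := by
      rw [show b * a * b⁻¹ * a⁻¹ = (a * b * a⁻¹ * b⁻¹)⁻¹ by group, e, mul_inv_rev]
      congr 1 <;> apply inv_eq_of_mul_eq_one_right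
      · rcases z2_cases' j with rfl | rfl <;> simp [zp_zero, zp_one, P.T.zz]
      · rcases z2_cases' i with rfl | rfl <;> simp [zp_zero, zp_one, P.S.zz]
    rw [← P.symm.phi_zp j i, ← e2, show b * a * b⁻¹ * a⁻¹ = b * (a * b⁻¹ * a⁻¹) by group,
      P.T.hadd b hb _ (P.T.norm hau (inv_mem hb)), ← P.T.act_phi hau (inv_mem hb), P.T.phi_inv hb,
      P.symm.act_perp ha hau hperp', ← add_assoc, v_self, zero_add]
  rw [e, hi, hj]

theorem qf_ww {b : G} (hb : b ∈ Q') (hbz : b * z = z * b) : qf (φ' b) = qf (P.ww b) := by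
  set c := P.yv * b * P.yv⁻¹ * b⁻¹ with hc_def
  have hc : c ∈ Q := P.cc_mem hbz
  have hcu : c * u = u * c := P.cc_u hb hbz
  have hperp' : bf (φ' b) e1 = 0 := (P.symm.comm_u hb).1 hbz
  have hcb : c * b = b * c := by
    rw [← mul_inv_eq_iff_eq_mul, ← mul_inv_eq_one]
    rw [P.comm_pre hc hcu hb hbz, P.cc_phi hbz, bf_self,
      bf_congr hperp' (P.symm.ww_perp hc hcu) hperp' (P.key hb hbz), bf_self, zp_zero, zp_zero,
      mul_one]
  have e2 : zp (u * z) (qf (φ' b)) = zp z (qf (P.ww b)) * zp u (qf (φ' b)) := by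
    rw [← P.y_u, ← zp_conj, ← P.T.hsq b hb, ← P.cc_phi hbz, ← P.S.hsq c hc]
    calc P.yv * (b * b) * P.yv⁻¹ = c * (b * c) * b := by rw [hc_def]; group
      _ = c * c * (b * b) := by rw [← hcb]; group
  rcases z2_cases' (qf (φ' b)) with e | e <;> rcases z2_cases' (qf (P.ww b)) with e' | e' <;>
    rw [e, e'] at e2 ⊢ <;> simp only [zp_one, zp_zero, mul_one, one_mul] at e2
  · exact absurd e2.symm P.S.zne
  · exact absurd (mul_eq_left.1 e2) P.S.zne

theorem bf_ww {b b' : G} (hb : b ∈ Q') (hbz : b * z = z * b) (hb' : b' ∈ Q')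
    (hbz' : b' * z = z * b') : bf (φ' b) (φ' b') = bf (P.ww b) (P.ww b') := by
  have hbb : b * b' * z = z * (b * b') := by rw [mul_assoc, hbz', ← mul_assoc, hbz, mul_assoc]
  have h1 := P.qf_ww (mul_mem hb hb') hbb
  rw [P.T.hadd b hb b' hb', qf_add,
    qf_congr (P.ww_perp (mul_mem hb hb') hbb) (perp_add (P.ww_perp hb hbz) (P.ww_perp hb' hbz'))
      ((P.ww_mul hb hbz hb' hbz').trans (Prod.snd_add _ _).symm),
    qf_add, P.qf_ww hb hbz, P.qf_ww hb' hbz'] at h1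
  exact add_left_cancel h1

/-- The commutator formula. -/
theorem comm {a b : G} (ha : a ∈ Q) (hau : a * u = u * a) (hb : b ∈ Q') (hbz : b * z = z * b) :
    a * b = zp (z * u) (bf (φ a) (P.ww b)) * (b * a) := by
  have hperp : bf (φ a) e1 = 0 := (P.comm_u ha).1 hau
  have hn : P.symm.yv * a * P.symm.yv⁻¹ * a⁻¹ ∈ Q' := P.symm.cc_mem hau
  have hnz := P.symm.cc_u ha hau
  have hβ : bf (φ' b) (P.symm.ww a) = bf (φ a) (P.ww b) := by
    have hk : (P.ww (P.symm.yv * a * P.symm.yv⁻¹ * a⁻¹)).2 = (φ a).2 := P.symm.key ha hau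
    rw [← P.symm.cc_phi hau, P.bf_ww hb hbz hn hnz,
      bf_congr (P.ww_perp hb hbz) (P.ww_perp hn hnz) hperp hk, bf_symm]
  have h := P.comm_pre ha hau hb hbz
  rw [hβ] at h
  calc a * b = a * b * a⁻¹ * b⁻¹ * (b * a) := by group
    _ = _ := by
      rw [h]
      rcases z2_cases' (bf (φ a) (P.ww b)) with e | e <;> rw [e] <;> simp [zp_zero, zp_one]

/-- Squares in `C_{Q'}(z)`. -/
theorem sq {b : G} (hb : b ∈ Q') (hbz : b * z = z * b) : b * b = zp u (qf (P.ww b)) := by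
  rw [P.T.hsq b hb, P.qf_ww hb hbz]

theorem exists_ww {v : V} (hv : bf v e1 = 0) :
    ∃ b ∈ Q', b * z = z * b ∧ (P.ww b).2 = v.2 := by
  obtain ⟨a, ha, rfl⟩ := P.S.hsurj v
  have hau := (P.comm_u ha).2 hv
  exact ⟨_, P.symm.cc_mem hau, P.symm.cc_u ha hau, P.symm.key ha hau⟩

end Pair

/-- A conjugate of `z` in `Q` gives a pair. -/
theorem exists_pair [Finite G] {z : G} {Q : Subgroup G} {φ : G → V} (S : Data z Q φ) {g : G}
    (hg : g * z * g⁻¹ ∈ Q) (hne : g * z * g⁻¹ ≠ z) :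
    ∃ ψ ψ' : G → V, Pair z (g * z * g⁻¹) Q (Q.map (MulAut.conj g).toMonoidHom) ψ ψ' := by
  obtain ⟨ψ, S1, h1⟩ := exists_adjust S hg
    (by rw [show g * z * g⁻¹ * (g * z * g⁻¹) = g * (z * z) * g⁻¹ by group, S.zz]; group)
    (fun e => S.zne (conj_eq_one_iff.1 e)) hne
  obtain ⟨ψ', T1, h2⟩ := exists_adjust (S.map g) (S.pack.mem_conj hg) S.zz S.zne hne.symm
  exact ⟨ψ, ψ', S1, T1, hg, S.pack.mem_conj hg, h1, h2, g, rfl, rfl⟩

end CfsgLib.InvChar.SuzType
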