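import Cfsg.Agent.Lib.InvChar.SuzType.Space
import Cfsg.Agent.Lib.PLocal.LargeExtraCriterion
import Cfsg.Agent.Lib.PLocal.LargeExtraSing

/-!
Groups of Suzuki type: the centraliser `C` of a central involution `z`, its normal extraspecial
subgroup `Q` of order `2^7` and coordinates `φ` for `Q` modulo `⟨z⟩`.
-/

set_option autoImplicit false

set_option linter.unusedSectionVars false

namespace CfsgLib.InvChar.SuzType

open Subgroup CfsgLib.PLocal.LargeExtra

variable {G : Type*} [Group G]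

/-- `z` to the power of a scalar. -/
def zp (z : G) (c : ZMod 2) : G := if c = 1 then z else 1

theorem zp_zero (z : G) : zp z 0 = 1 := if_neg (by decide)

theorem zp_one (z : G) : zp z 1 = z := if_pos rfl

theorem zp_conj (g z : G) (c : ZMod 2) : g * zp z c * g⁻¹ = zp (g * z * g⁻¹) c := by
  unfold zp; split_ifs <;> simp

/-- The hypotheses, in coordinates. -/
structure Data (z : G) (Q : Subgroup G) (φ : G → V) : Prop where
  pack : Pack Q z
  cardC : Nat.card ↥(centralizer ({z} : Set G)) = 128 * 25920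
  hadd : ∀ a ∈ Q, ∀ b ∈ Q, φ (a * b) = φ a + φ b
  hsurj : ∀ v : V, ∃ a ∈ Q, φ a = v
  hzero : ∀ a ∈ Q, φ a = 0 → a = 1 ∨ a = z
  hz : φ z = 0
  hsq : ∀ a ∈ Q, a * a = zp z (qf (φ a))
  hcomm : ∀ a ∈ Q, ∀ b ∈ Q, a * b = b * a * zp z (bf (φ a) (φ b))
  hker : ∀ h : G, h * z = z * h → (∀ a ∈ Q, φ (h * a * h⁻¹) = φ a) → h ∈ Q
  hrefl : ∀ a b : V, qf a = 1 → qf b = 1 → bf a b = 1 →
    ∃ h : G, h * z = z * h ∧ ∀ q ∈ Q, φ (h * q * h⁻¹) = rf a (rf b (φ q))

/-- The map induced on the coordinates. -/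
noncomputable def act (Q : Subgroup G) (φ : G → V) (h : G) (v : V) : V :=
  φ (h * Function.invFunOn φ (Q : Set G) v * h⁻¹)

namespace Data

variable [Finite G] {z : G} {Q : Subgroup G} {φ : G → V} (S : Data z Q φ)
include S

theorem zQ : z ∈ Q := S.pack.mem

theorem zz : z * z = 1 := S.pack.z_mul_z

theorem zne : z ≠ 1 := S.pack.z_ne

theorem zinv : z⁻¹ = z := inv_eq_of_mul_eq_one_right S.zz

theorem commQ {q : G} (hq : q ∈ Q) : q * z = z * q := S.pack.comm_z hq

theorem norm {h q : G} (hh : h * z = z * h) (hq : q ∈ Q) : h * q * h⁻¹ ∈ Q :=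
  (mem_normalizer_iff.1 (S.pack.norm (mem_centralizer_singleton_iff.2 hh)) q).1 hq

theorem conjZ {h : G} (hh : h * z = z * h) : h * z * h⁻¹ = z := by rw [hh, mul_inv_cancel_right]

theorem phi_one : φ 1 = 0 := by
  have h := S.hadd 1 Q.one_mem 1 Q.one_mem
  rw [one_mul] at h
  exact left_eq_add.1 h

theorem phi_inv {a : G} (ha : a ∈ Q) : φ a⁻¹ = φ a := by
  have h := S.hadd a⁻¹ (Q.inv_mem ha) a ha
  rw [inv_mul_cancel, S.phi_one] at h
  calc φ a⁻¹ = φ a⁻¹ + (φ a + φ a) := by rw [v_self, add_zero]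
    _ = φ a := by rw [← add_assoc, ← h, zero_add]

theorem phi_eq {a b : G} (ha : a ∈ Q) (hb : b ∈ Q) (h : φ a = φ b) : a = b ∨ a = b * z := by
  have h1 := S.hzero (b⁻¹ * a) (mul_mem (inv_mem hb) ha) (by
    rw [S.hadd _ (inv_mem hb) _ ha, S.phi_inv hb, h, v_self])
  rcases h1 with e | e
  · exact Or.inl (by rw [← mul_one b, ← e, mul_inv_cancel_left])
  · exact Or.inr (by rw [← e, mul_inv_cancel_left])

theorem phi_mul_z {a : G} (ha : a ∈ Q) : φ (a * z) = φ a := by
  rw [S.hadd a ha z S.zQ, S.hz, add_zero]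

theorem commute_iff {a b : G} (ha : a ∈ Q) (hb : b ∈ Q) : a * b = b * a ↔ bf (φ a) (φ b) = 0 := by
  rw [S.hcomm a ha b hb]
  rcases z2_cases' (bf (φ a) (φ b)) with e | e
  · simp [e, zp_zero]
  · rw [e, zp_one]
    simp [S.zne]

theorem conj_z_of {a b : G} (ha : a ∈ Q) (hb : b ∈ Q) (h : bf (φ a) (φ b) = 1) :
    a * b * a⁻¹ = b * z := by
  rw [S.hcomm a ha b hb, h, zp_one, mul_inv_eq_iff_eq_mul, mul_assoc b a z, S.commQ ha, mul_assoc]

theorem sing_of_invol {a : G} (ha : a ∈ Q) (h : a * a = 1) : qf (φ a) = 0 := by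
  rw [S.hsq a ha] at h
  rcases z2_cases' (qf (φ a)) with e | e
  · exact e
  · rw [e, zp_one] at h; exact absurd h S.zne

theorem invol_of_sing {a : G} (ha : a ∈ Q) (h : qf (φ a) = 0) : a * a = 1 := by
  rw [S.hsq a ha, h, zp_zero]

theorem phi_conj_congr {h a b : G} (hh : h * z = z * h) (ha : a ∈ Q) (hb : b ∈ Q)
    (he : φ a = φ b) : φ (h * a * h⁻¹) = φ (h * b * h⁻¹) := by
  rcases S.phi_eq ha hb he with e | e
  · rw [e]
  · rw [e, show h * (b * z) * h⁻¹ = (h * b * h⁻¹) * (h * z * h⁻¹) by group, S.conjZ hh,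
      S.phi_mul_z (S.norm hh hb)]

theorem act_phi {h a : G} (hh : h * z = z * h) (ha : a ∈ Q) :
    act Q φ h (φ a) = φ (h * a * h⁻¹) :=
  S.phi_conj_congr hh (Function.invFunOn_mem ⟨a, ha, rfl⟩) ha (Function.invFunOn_eq ⟨a, ha, rfl⟩)

theorem act_eq {h : G} (hh : h * z = z * h) {f : V → V}
    (H : ∀ q ∈ Q, φ (h * q * h⁻¹) = f (φ q)) (v : V) : act Q φ h v = f v := by
  obtain ⟨a, ha, rfl⟩ := S.hsurj v
  rw [S.act_phi hh ha, H a ha]

theorem act_add {h : G} (hh : h * z = z * h) (x y : V) :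
    act Q φ h (x + y) = act Q φ h x + act Q φ h y := by
  obtain ⟨a, ha, rfl⟩ := S.hsurj x
  obtain ⟨b, hb, rfl⟩ := S.hsurj y
  rw [← S.hadd a ha b hb, S.act_phi hh (mul_mem ha hb), S.act_phi hh ha, S.act_phi hh hb,
    ← S.hadd _ (S.norm hh ha) _ (S.norm hh hb)]
  congr 1; group

theorem act_qf {h : G} (hh : h * z = z * h) (x : V) : qf (act Q φ h x) = qf x := by
  obtain ⟨a, ha, rfl⟩ := S.hsurj x
  rw [S.act_phi hh ha]
  have h1 := S.hsq _ (S.norm hh ha)
  rw [show h * a * h⁻¹ * (h * a * h⁻¹) = h * (a * a) * h⁻¹ by group, S.hsq a ha, zp_conj,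
    S.conjZ hh] at h1
  rcases z2_cases' (qf (φ (h * a * h⁻¹))) with e | e <;> rcases z2_cases' (qf (φ a)) with e' | e' <;>
    rw [e, e'] at h1 ⊢
  · rw [zp_one, zp_zero] at h1; exact absurd h1 S.zne
  · rw [zp_one, zp_zero] at h1; exact absurd h1.symm S.zne

theorem act_bf {h : G} (hh : h * z = z * h) (x y : V) :
    bf (act Q φ h x) (act Q φ h y) = bf x y := by
  have h1 := qf_add (act Q φ h x) (act Q φ h y)
  rw [← S.act_add hh, S.act_qf hh, S.act_qf hh, S.act_qf hh, qf_add] at h1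
  exact (add_left_cancel h1).symm

theorem act_mul {h k : G} (hh : h * z = z * h) (hk : k * z = z * k) (x : V) :
    act Q φ (h * k) x = act Q φ h (act Q φ k x) := by
  obtain ⟨a, ha, rfl⟩ := S.hsurj x
  rw [S.act_phi hk ha, S.act_phi hh (S.norm hk ha),
    S.act_phi (by rw [mul_assoc, hk, ← mul_assoc, hh, mul_assoc]) ha]
  congr 1; group

theorem act_of_mem {h : G} (hq : h ∈ Q) (x : V) : act Q φ h x = x := by
  obtain ⟨a, ha, rfl⟩ := S.hsurj x
  rw [S.act_phi (S.commQ hq) ha, S.hadd _ (mul_mem hq ha) _ (inv_mem hq), S.hadd h hq a ha,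
    S.phi_inv hq, add_comm (φ h), add_assoc, v_self, add_zero]

theorem mem_of_act_id {h : G} (hh : h * z = z * h) (H : ∀ x, act Q φ h x = x) : h ∈ Q :=
  S.hker h hh fun a ha => by rw [← S.act_phi hh ha, H]

/-- An element inducing the map of a word. -/
theorem exists_word : ∀ (w : List (ℕ × ℕ)), GoodWord w →
    ∃ h : G, h * z = z * h ∧ ∀ x, act Q φ h x = wfun w x
  | [], _ => ⟨1, by simp, fun x => S.act_of_mem Q.one_mem x⟩
  | p :: r, hw => by
    obtain ⟨k, hk, hk'⟩ := exists_word r fun a ha => hw a (List.mem_cons_of_mem _ ha)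
    obtain ⟨ha, hb, hab⟩ := hw p (by simp)
    obtain ⟨h, hh, hh'⟩ := S.hrefl _ _ ha hb hab
    refine ⟨h * k, by rw [mul_assoc, hk, ← mul_assoc, hh, mul_assoc], fun x => ?_⟩
    rw [S.act_mul hh hk, hk', S.act_eq hh (f := fun y => rf (code p.1) (rf (code p.2) y)) hh']
    rfl

theorem exists_step {u m : V} (hu : qf u = 0) (hm : qf m = 0) (h : bf u m = 1) :
    ∃ k : G, k * z = z * k ∧ act Q φ k u = m := by
  obtain ⟨b, hb, hbu, hab⟩ := move_singular_refl u m hu hm h
  obtain ⟨k, hk, hk'⟩ := S.hrefl (u + m) b (by rw [qf_add, hu, hm, h, add_zero, zero_add]) hb hab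
  refine ⟨k, hk, ?_⟩
  rw [S.act_eq hk (f := fun y => rf (u + m) (rf b y)) hk', show rf b u = u from if_neg (by rw [hbu]; decide),
    show rf (u + m) u = u + (u + m) from if_pos (by rw [bf_add_left, bf_self, bf_symm m, h, zero_add]),
    ← add_assoc, v_self, zero_add]

theorem exists_to_e1 {u : V} (hu : qf u = 0) (h0 : u ≠ 0) :
    ∃ k : G, k * z = z * k ∧ act Q φ k u = e1 := by
  rcases z2_cases' (bf u e1) with h | h
  · obtain ⟨m, hm, hum, hme⟩ := move_singular_step u h0 hu h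
    obtain ⟨k, hk, e⟩ := S.exists_step hu hm hum
    obtain ⟨k', hk', e'⟩ := S.exists_step hm base_facts.1 hme
    exact ⟨k' * k, by rw [mul_assoc, hk, ← mul_assoc, hk', mul_assoc], by
      rw [S.act_mul hk' hk, e, e']⟩
  · exact S.exists_step hu base_facts.1 h

/-- Composing the coordinates with a reflection. -/
theorem comp_rf {c : V} (hc : qf c = 1) : Data z Q (fun x => rf c (φ x)) where
  pack := S.pack
  cardC := S.cardC
  hadd a ha b hb := by simp only [S.hadd a ha b hb, rf_add]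
  hsurj v := by
    obtain ⟨a, ha, e⟩ := S.hsurj (rf c v)
    exact ⟨a, ha, by simp only [e, rf_rf]⟩
  hzero a ha h := S.hzero a ha (by
    have h' := congrArg (rf c) h
    simp only [rf_rf] at h'
    rw [h']; simp [rf, bf_zero])
  hz := by simp [S.hz, rf, bf_zero]
  hsq a ha := by simp only [rf_qf hc, S.hsq a ha]
  hcomm a ha b hb := by simp only [rf_bf hc, S.hcomm a ha b hb]
  hker h hh H := S.hker h hh fun a ha => by
    have := congrArg (rf c) (H a ha)
    simpa only [rf_rf] using this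
  hrefl a b ha hb hab := by
    obtain ⟨h, hh, hh'⟩ := S.hrefl (rf c a) (rf c b) (by rw [rf_qf hc, ha]) (by rw [rf_qf hc, hb])
      (by rw [rf_bf hc, hab])
    refine ⟨h, hh, fun q hq => ?_⟩
    show rf c (φ (h * q * h⁻¹)) = rf a (rf b (rf c (φ q)))
    rw [hh' q hq, rf_conj hc, rf_conj hc, rf_rf, rf_rf]

/-- Transport along conjugation. -/
theorem map (g : G) :
    Data (g * z * g⁻¹) (Q.map (MulAut.conj g).toMonoidHom) (fun x => φ (g⁻¹ * x * g)) := by
  have back : ∀ {x : G}, x ∈ Q.map (MulAut.conj g).toMonoidHom → g⁻¹ * x * g ∈ Q := by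
    rintro _ ⟨a, ha, rfl⟩
    simpa [mul_assoc] using ha
  have hback : ∀ {h : G}, h * (g * z * g⁻¹) = g * z * g⁻¹ * h →
      g⁻¹ * h * g * z = z * (g⁻¹ * h * g) := fun {h} e => by
    calc g⁻¹ * h * g * z = g⁻¹ * (h * (g * z * g⁻¹)) * g := by group
      _ = z * (g⁻¹ * h * g) := by rw [e]; group
  refine
    { pack := S.pack.map g
      cardC := ?_
      hadd := fun a ha b hb => ?_
      hsurj := fun v => ?_
      hzero := fun a ha h => ?_
      hz := ?_
      hsq := fun a ha => ?_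
      hcomm := fun a ha b hb => ?_
      hker := fun h hh H => ?_
      hrefl := fun a b ha hb hab => ?_ }
  · rw [← S.cardC, ← map_centralizer_singleton g z]
    exact card_map_of_injective (MulAut.conj g).injective
  · show φ _ = φ _ + φ _
    rw [← S.hadd _ (back ha) _ (back hb)]
    congr 1; group
  · obtain ⟨a, ha, e⟩ := S.hsurj v
    exact ⟨_, ⟨a, ha, rfl⟩, by simpa [mul_assoc] using e⟩
  · rcases S.hzero _ (back ha) h with e | e
    · exact Or.inl (by rw [show a = g * (g⁻¹ * a * g) * g⁻¹ by group, e]; group)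
    · exact Or.inr (by rw [show a = g * (g⁻¹ * a * g) * g⁻¹ by group, e])
  · show φ _ = 0
    rw [show g⁻¹ * (g * z * g⁻¹) * g = z by group, S.hz]
  · rw [← zp_conj, ← S.hsq _ (back ha)]; group
  · rw [← zp_conj]
    have e := S.hcomm _ (back ha) _ (back hb)
    calc a * b = g * (g⁻¹ * a * g * (g⁻¹ * b * g)) * g⁻¹ := by group
      _ = _ := by rw [e]; group
  · have := S.hker _ (hback hh) fun a ha => by
      have := H _ ⟨a, ha, rfl⟩
      simp only [MulEquiv.coe_toMonoidHom, MulAut.conj_apply] at this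
      rw [show g⁻¹ * (g * a * g⁻¹) * g = a by group] at this
      rw [← this]; congr 1; group
    exact ⟨_, this, by simp [mul_assoc]⟩
  · obtain ⟨h, hh, hh'⟩ := S.hrefl a b ha hb hab
    refine ⟨g * h * g⁻¹, ?_, fun q hq => ?_⟩
    · calc g * h * g⁻¹ * (g * z * g⁻¹) = g * (h * z) * g⁻¹ := by group
        _ = _ := by rw [hh]; group
    · show φ _ = _
      rw [← hh' _ (back hq)]
      congr 1; group

end Data

/-- Changing the coordinates so that a given involution has the first basis vector. -/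
theorem exists_adjust [Finite G] {z : G} {Q : Subgroup G} {φ : G → V} (S : Data z Q φ) {x : G}
    (hx : x ∈ Q) (hxx : x * x = 1) (h1 : x ≠ 1) (hz : x ≠ z) :
    ∃ φ' : G → V, Data z Q φ' ∧ φ' x = e1 := by
  have h0 : φ x ≠ 0 := fun e => (S.hzero x hx e).elim h1 hz
  have hq := S.sing_of_invol hx hxx
  have step : ∀ (ψ : G → V), Data z Q ψ → ∀ m : V, qf (ψ x) = 0 → qf m = 0 → bf (ψ x) m = 1 →
      ∃ ψ' : G → V, Data z Q ψ' ∧ ψ' x = m := by
    intro ψ T m hu hm h
    refine ⟨_, T.comp_rf (c := ψ x + m) (by rw [qf_add, hu, hm, h, add_zero, zero_add]), ?_⟩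
    show rf (ψ x + m) (ψ x) = m
    rw [rf, if_pos (by rw [bf_add_left, bf_self, bf_symm m, h, zero_add]), ← add_assoc, v_self,
      zero_add]
  rcases z2_cases' (bf (φ x) e1) with h | h
  · obtain ⟨m, hm, hum, hme⟩ := move_singular_step _ h0 hq h
    obtain ⟨ψ, T, e⟩ := step φ S m hq hm hum
    exact step ψ T e1 (by rw [e]; exact hm) base_facts.1 (by rw [e]; exact hme)
  · exact step φ S e1 hq base_facts.1 h

end CfsgLib.InvChar.SuzType
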