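import Cfsg.Agent.Lib.InvChar.SuzType.Involutions

/-!
A group of Suzuki type has exactly two classes of involutions.
-/

set_option autoImplicit false
set_option linter.unusedSectionVars false

namespace CfsgLib.InvChar.SuzType

open Subgroup CfsgLib.PLocal.LargeExtra

theorem zp_add {G' : Type*} [Group G'] {x : G'} (hx : x * x = 1) (i j : ZMod 2) :
    zp x (i + j) = zp x i * zp x j := by
  rcases z2_cases' i with rfl | rfl <;> rcases z2_cases' j with rfl | rfl <;>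
    simp [zp_zero, zp_one, hx, show (1 : ZMod 2) + 1 = 0 from rfl]

variable {G : Type*} [Group G] [Finite G] {z u : G} {Q Q' : Subgroup G} {φ φ' : G → V}

namespace Pair

variable (P : Pair z u Q Q' φ φ')

/-- An element of the four group by exponents. -/
def cz (_ : Pair z u Q Q' φ φ') (i j : ZMod 2) : G := zp z i * zp u j

/-- `m` and `n` commute up to the given element of the four group. -/
def Rel (P : Pair z u Q Q' φ φ') (m n : G) (i j : ZMod 2) : Prop := m * n = P.cz i j * (n * m)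

include P

theorem cz_zero : P.cz 0 0 = 1 := by simp [cz, zp_zero]

theorem cz_add (i j k l : ZMod 2) : P.cz (i + k) (j + l) = P.cz i j * P.cz k l := by
  unfold cz
  rw [zp_add P.S.zz, zp_add P.T.zz]
  have h : zp z k * zp u j = zp u j * zp z k := by
    rcases z2_cases' k with rfl | rfl <;> rcases z2_cases' j with rfl | rfl <;>
      simp [zp_zero, zp_one, P.zu]
  calc zp z i * zp z k * (zp u j * zp u l) = zp z i * (zp z k * zp u j) * zp u l := by group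
    _ = _ := by rw [h]; group

theorem cz_comm {m : G} (hz : m * z = z * m) (hu : m * u = u * m) (i j : ZMod 2) :
    m * P.cz i j = P.cz i j * m := by
  unfold cz
  rcases z2_cases' i with rfl | rfl <;> rcases z2_cases' j with rfl | rfl <;>
    simp only [zp_zero, zp_one, one_mul, mul_one, hz, hu]
  rw [← mul_assoc, hz, mul_assoc, hu, mul_assoc]

theorem cz_eq_one {i j : ZMod 2} (h : P.cz i j = 1) : i = 0 ∧ j = 0 := by
  rcases z2_cases' i with rfl | rfl <;> rcases z2_cases' j with rfl | rfl <;>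
    simp only [cz, zp_zero, zp_one, one_mul, mul_one] at h
  · exact ⟨rfl, rfl⟩
  · exact absurd h P.T.zne
  · exact absurd h P.S.zne
  · exact absurd h P.zu_ne

theorem zp_zu (e : ZMod 2) : zp (z * u) e = P.cz e e := by
  rcases z2_cases' e with rfl | rfl <;> simp [cz, zp_zero, zp_one]

theorem inR_cz (i j : ZMod 2) : P.InR (P.cz i j) := P.inR_zp i j

/-- Commutation in `A N`, with `A = C_Q(u)` and `N = C_{Q'}(z)`. -/
theorem rel {a a' b b' : G} (ha : a ∈ Q) (hau : a * u = u * a) (hb : b ∈ Q')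
    (hbz : b * z = z * b) (ha' : a' ∈ Q) (hau' : a' * u = u * a') (hb' : b' ∈ Q')
    (hbz' : b' * z = z * b') :
    P.Rel (a * b) (a' * b')
      (bf (φ a) (φ a') + bf (φ a) (P.ww b') + bf (φ a') (P.ww b))
      (bf (P.ww b) (P.ww b') + bf (φ a) (P.ww b') + bf (φ a') (P.ww b)) := by
  have e1 : b * a' = P.cz (bf (φ a') (P.ww b)) (bf (φ a') (P.ww b)) * (a' * b) := by
    rw [P.comm ha' hau' hb hbz, P.zp_zu, ← mul_assoc, ← P.cz_add, z2_self, P.cz_zero, one_mul]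
  have e2 : a * b' = P.cz (bf (φ a) (P.ww b')) (bf (φ a) (P.ww b')) * (b' * a) := by
    rw [P.comm ha hau hb' hbz', P.zp_zu]
  have e3 : a * a' = P.cz (bf (φ a) (φ a')) 0 * (a' * a) := by
    rw [P.S.hcomm a ha a' ha', cz, zp_zero, mul_one]
    rcases z2_cases' (bf (φ a) (φ a')) with e | e <;> rw [e] <;>
      simp only [zp_zero, zp_one, mul_one, one_mul]
    exact P.S.commQ (mul_mem ha' ha)
  have e4 : b * b' = P.cz 0 (bf (P.ww b) (P.ww b')) * (b' * b) := by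
    rw [P.T.hcomm b hb b' hb', P.bf_ww hb hbz hb' hbz', cz, zp_zero, one_mul]
    rcases z2_cases' (bf (P.ww b) (P.ww b')) with e | e <;> rw [e] <;>
      simp only [zp_zero, zp_one, mul_one, one_mul]
    exact P.T.commQ (mul_mem hb' hb)
  have cm : ∀ {m : G}, m * z = z * m → m * u = u * m → ∀ i j, m * P.cz i j = P.cz i j * m :=
    fun hz hu => P.cz_comm hz hu
  have haz := P.S.commQ ha
  have haz' := P.S.commQ ha'
  have hbu := P.T.commQ hb
  have hbu' := P.T.commQ hb'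
  unfold Rel
  set e := bf (φ a') (P.ww b)
  set e' := bf (φ a) (P.ww b')
  set f := bf (φ a) (φ a')
  set g := bf (P.ww b) (P.ww b')
  calc a * b * (a' * b') = a * (b * a') * b' := by group
    _ = (a * P.cz e e) * a' * (b * b') := by rw [e1]; group
    _ = P.cz e e * (a * a') * (P.cz 0 g * (b' * b)) := by rw [cm haz hau, e4]; group
    _ = P.cz e e * P.cz f 0 * (a' * a * P.cz 0 g) * (b' * b) := by rw [e3]; group
    _ = P.cz e e * P.cz f 0 * P.cz 0 g * (a' * (a * b') * b) := by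
      rw [cm (mul_comm_z haz' haz) (mul_comm_z hau' hau)]; group
    _ = P.cz e e * P.cz f 0 * P.cz 0 g * (a' * P.cz e' e') * (b' * (a * b)) := by rw [e2]; group
    _ = P.cz e e * P.cz f 0 * P.cz 0 g * P.cz e' e' * (a' * b' * (a * b)) := by
      rw [cm haz' hau']; group
    _ = P.cz (f + e' + e) (g + e' + e) * (a' * b' * (a * b)) := by
      rw [← P.cz_add, ← P.cz_add, ← P.cz_add]
      congr 2 <;> abel

theorem inR_of_phi {a : G} (ha : a ∈ Q) (hau : a * u = u * a) (h : (φ a).2 = 0) : P.InR a := by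
  rcases z_or_e1 (φ a) ((P.comm_u ha).1 hau) h with e | e
  · rcases P.S.hzero a ha e with e' | e'
    · exact Or.inl e'
    · exact Or.inr (Or.inl e')
  · rcases P.S.phi_eq ha P.mem (e.trans P.he.symm) with e' | e'
    · exact Or.inr (Or.inr (Or.inl e'))
    · exact Or.inr (Or.inr (Or.inr (by rw [P.zu]; exact e')))

theorem InR.mem {x : G} (h : P.InR x) : x ∈ Q ∧ x ∈ Q' := by
  rcases h with rfl | rfl | rfl | rfl
  exacts [⟨one_mem _, one_mem _⟩, ⟨P.S.zQ, P.mem'⟩, ⟨P.mem, P.T.zQ⟩,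
    ⟨mul_mem P.S.zQ P.mem, mul_mem P.mem' P.T.zQ⟩]

theorem ww_one : (P.ww 1).2 = 0 := by
  show (act Q φ 1 f1 + f1).2 = 0
  rw [P.S.act_of_mem Q.one_mem, v_self]; rfl

theorem ww_of_inR {b : G} (h : P.InR b) : (P.ww b).2 = 0 := by
  show (act Q φ b f1 + f1).2 = 0
  rw [P.S.act_of_mem (InR.mem P h).1, v_self]; rfl

theorem act_u {h : G} (hh : h * z = z * h) (hu : h * u = u * h) : act Q φ h e1 = e1 := by
  rw [← P.he, P.S.act_phi hh P.mem, hu, mul_inv_cancel_right]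

theorem act_snd {h : G} (hh : h * z = z * h) (hu : h * u = u * h) {x y : V} (hx : bf x e1 = 0)
    (hy : bf y e1 = 0) (e : x.2 = y.2) : (act Q φ h x).2 = (act Q φ h y).2 := by
  rcases snd_congr x y hx hy e with rfl | rfl
  · rfl
  · rw [P.S.act_add hh, P.act_u hh hu, Prod.snd_add,
      show e1.2 = (0 : Pl × Pl) from rfl, add_zero]

theorem conj_N {h b : G} (hh : h * z = z * h) (hu : h * u = u * h) (hb : b ∈ Q')
    (hbz : b * z = z * b) :
    h * b * h⁻¹ ∈ Q' ∧ (h * b * h⁻¹) * z = z * (h * b * h⁻¹) ∧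
      (P.ww (h * b * h⁻¹)).2 = (act Q φ h (P.ww b)).2 := by
  have hbz' : (h * b * h⁻¹) * z = z * (h * b * h⁻¹) :=
    mul_comm_z (mul_comm_z hh hbz) (inv_comm_z hh)
  have hb' := P.T.norm hu hb
  refine ⟨hb', hbz', ?_⟩
  have hw : bf (act Q φ h (P.ww b)) e1 = 0 := by
    conv_lhs => rw [← P.act_u hh hu]
    rw [P.S.act_bf hh, P.ww_perp hb hbz]
  have hc : bf (P.ww (h * b * h⁻¹) + act Q φ h (P.ww b)) e1 = 0 :=
    perp_add (P.ww_perp hb' hbz') hw
  have key := radical_e1 _ hc fun x hx => by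
    have h1 : act Q φ (h * b * h⁻¹) x = act Q φ h (act Q φ b (act Q φ h⁻¹ x)) := by
      rw [P.S.act_mul (mul_comm_z hh hbz) (inv_comm_z hh), P.S.act_mul hh hbz]
    have hx' : bf (act Q φ h⁻¹ x) e1 = 0 := by
      rw [← P.S.act_inv_left hh e1, P.act_u hh hu, P.S.act_bf (inv_comm_z hh), hx]
    rw [P.act_perp hb' hbz' hx, P.act_perp hb hbz hx', P.S.act_add hh, P.S.act_inv_right hh,
      additive_sm (P.S.act_add hh), P.act_u hh hu] at h1
    have hinj : ∀ i j : ZMod 2, sm i e1 = sm j e1 → i = j := by decide +kernel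
    have h2 := hinj _ _ (add_left_cancel h1)
    rw [bf_add_right, h2, ← P.S.act_inv_right hh x, P.S.act_bf hh, P.S.act_inv_left hh, z2_self]
  rw [Prod.snd_add] at key
  calc (P.ww (h * b * h⁻¹)).2 = (P.ww (h * b * h⁻¹)).2 +
      ((act Q φ h (P.ww b)).2 + (act Q φ h (P.ww b)).2) := by
        rw [← Prod.snd_add, v_self]; simp
    _ = (act Q φ h (P.ww b)).2 := by rw [← add_assoc, key, zero_add]

/-- The two possibilities for an involution of the centraliser of `z` outside `Q`. -/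
theorem cases_of_invol {t : G} (htz : t * z = z * t) (htt : t * t = 1) (htQ : t ∉ Q) :
    ∃ h : G, h * z = z * h ∧ ∃ a ∈ Q, ∃ b ∈ Q', a * u = u * a ∧ b * z = z * b ∧
      h * t * h⁻¹ = a * b ∧ (P.ww b).2 ≠ 0 ∧ qf (φ a) = bf (φ a) (P.ww b) ∧
        qf (P.ww b) = bf (φ a) (P.ww b) := by
  obtain ⟨v, hv0, hvq, hvf, hvp⟩ := P.S.exists_witness htz
    (fun x => by rw [← P.S.act_mul htz htz, htt, P.S.act_of_mem Q.one_mem])
    (by
      by_contra hn
      push Not at hn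
      exact htQ (P.S.mem_of_act_id htz hn))
  obtain ⟨k, hk, hkv⟩ := P.S.exists_to_e1 hvq hv0
  obtain ⟨t', ht'⟩ : ∃ t', t' = k * t * k⁻¹ := ⟨_, rfl⟩
  have htz' : t' * z = z * t' := ht' ▸ mul_comm_z (mul_comm_z hk htz) (inv_comm_z hk)
  have hact : ∀ x, act Q φ t' x = act Q φ k (act Q φ t (act Q φ k⁻¹ x)) := fun x => by
    rw [ht', P.S.act_mul (mul_comm_z hk htz) (inv_comm_z hk), P.S.act_mul hk htz]
  have hki : act Q φ k⁻¹ e1 = v := by rw [← hkv, P.S.act_inv_left hk]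
  have hrad : IsRad (act Q φ t') := by
    refine ⟨P.S.act_add htz', P.S.act_qf htz', by rw [hact, hki, hvf, hkv], fun x hx => ?_⟩
    have h0 : bf (act Q φ k⁻¹ x) v = 0 := by rw [← hki, P.S.act_bf (inv_comm_z hk), hx]
    rw [hact]
    rcases hvp _ h0 with e | e <;> rw [e]
    · rw [P.S.act_inv_right hk]
    · rw [P.S.act_add hk, P.S.act_inv_right hk, hkv, Prod.snd_add,
        show e1.2 = (0 : Pl × Pl) from rfl, add_zero]
  obtain ⟨b, hb, hbz, hbw⟩ := P.exists_ww hrad.cvec_perp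
  have heq : ∀ x, act Q φ t' x = act Q φ b x := hrad.eq_of_cvec (P.isRad hb hbz) hbw.symm
  have hq : t' * b⁻¹ ∈ Q := P.S.mem_of_act_id (mul_comm_z htz' (inv_comm_z hbz)) fun x => by
    rw [P.S.act_mul htz' (inv_comm_z hbz), heq, P.S.act_inv_right hbz]
  have hbne : (P.ww b).2 ≠ 0 := fun h0 => htQ (by
    have h1 : t' ∈ Q := by
      simpa using mul_mem hq (InR.mem P (P.mem_of_ww hb hbz h0)).1
    have h2 := P.S.norm (inv_comm_z hk) h1
    rw [ht', show k⁻¹ * (k * t * k⁻¹) * k⁻¹⁻¹ = t by group] at h2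
    exact h2)
  have htt' : t' * t' = 1 := by
    rw [ht', show k * t * k⁻¹ * (k * t * k⁻¹) = k * (t * t) * k⁻¹ by group, htt]; group
  obtain ⟨a, ha, hab⟩ : ∃ a ∈ Q, t' = a * b := ⟨_, hq, by group⟩
  have hau : a * u = u * a := by
    refine (P.comm_u ha).2 ((z2_cases' _).resolve_right fun hone => hbne ?_)
    have hbb : b * b ∈ Q := by
      rw [P.sq hb hbz]
      rcases z2_cases' (qf (P.ww b)) with e | e <;> rw [e]
      · rw [zp_zero]; exact one_mem _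
      · rw [zp_one]; exact P.mem
    have h0 : φ a + act Q φ b (φ a) + φ (b * b) = 0 := by
      rw [P.S.act_phi hbz ha, ← P.S.hadd a ha _ (P.S.norm hbz ha),
        ← P.S.hadd _ (mul_mem ha (P.S.norm hbz ha)) _ hbb, ← P.S.phi_one, ← htt', hab]
      congr 1; group
    have hR := InR.phi_snd P (x := b * b) (by
      rw [P.sq hb hbz, ← one_mul (zp u _), ← zp_zero z]; exact P.inR_zp 0 _)
    have hx : bf (φ a + f1) e1 = 0 := by
      rw [bf_add_left, hone, base_facts.2.2.2.1]; decide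
    have h3 := (P.isRad hb hbz).triv _ hx
    rw [P.S.act_add hbz, Prod.snd_add, Prod.snd_add] at h3
    have h4 := congrArg Prod.snd h0
    rw [Prod.snd_add, Prod.snd_add, hR.1, add_zero] at h4
    show (act Q φ b f1 + f1).2 = 0
    rw [Prod.snd_add]
    calc (act Q φ b f1).2 + f1.2
        = ((φ a).2 + (act Q φ b (φ a)).2) + ((act Q φ b f1).2 + f1.2) := by
          rw [show (φ a).2 + (act Q φ b (φ a)).2 = 0 from h4, zero_add]
      _ = ((act Q φ b (φ a)).2 + (act Q φ b f1).2) + ((φ a).2 + f1.2) := by abel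
      _ = 0 := by rw [h3, ← Prod.snd_add, ← Prod.snd_add, v_self]; rfl
  refine ⟨k, hk, a, ha, b, hb, hau, hbz, ht'.symm.trans hab, hbne, ?_⟩
  have hsq : a * b * (a * b) = P.cz (qf (φ a) + bf (φ a) (P.ww b))
      (qf (P.ww b) + bf (φ a) (P.ww b)) := by
    have e : b * a = P.cz (bf (φ a) (P.ww b)) (bf (φ a) (P.ww b)) * (a * b) := by
      rw [P.comm ha hau hb hbz, P.zp_zu, ← mul_assoc, ← P.cz_add, z2_self, P.cz_zero, one_mul]
    calc a * b * (a * b) = a * (b * a) * b := by group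
      _ = a * P.cz (bf (φ a) (P.ww b)) (bf (φ a) (P.ww b)) * a * (b * b) := by rw [e]; group
      _ = P.cz (bf (φ a) (P.ww b)) (bf (φ a) (P.ww b)) * (a * a) * (b * b) := by
        rw [P.cz_comm (P.S.commQ ha) hau]; group
      _ = P.cz (bf (φ a) (P.ww b)) (bf (φ a) (P.ww b)) * P.cz (qf (φ a)) 0 *
          P.cz 0 (qf (P.ww b)) := by
        rw [P.S.hsq a ha, P.sq hb hbz]; simp [cz, zp_zero, mul_assoc]
      _ = _ := by rw [← P.cz_add, ← P.cz_add]; congr 1 <;> abel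
  rw [← hab, htt'] at hsq
  obtain ⟨h1, h2⟩ := P.cz_eq_one hsq.symm
  have key : ∀ i j : ZMod 2, i + j = 0 → i = j := by decide
  exact ⟨key _ _ h1, key _ _ h2⟩

/-- Representatives for the standard involution. -/
theorem exists_std : ∃ a₀ ∈ Q, ∃ b₀ ∈ Q', a₀ * u = u * a₀ ∧ b₀ * z = z * b₀ ∧ φ a₀ = v0 ∧
    (P.ww b₀).2 = w0.2 := by
  obtain ⟨a, ha, e⟩ := P.S.hsurj v0
  obtain ⟨b, hb, hbz, hw⟩ := P.exists_ww base_facts.2.2.2.2.2.1
  exact ⟨a, ha, b, hb, (P.comm_u ha).2 (e ▸ base_facts.2.2.2.2.1), hbz, e, hw⟩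

section Std

variable {a₀ b₀ : G} (ha₀ : a₀ ∈ Q) (hau₀ : a₀ * u = u * a₀) (hb₀ : b₀ ∈ Q')
  (hbz₀ : b₀ * z = z * b₀) (hv₀ : φ a₀ = v0) (hw₀ : (P.ww b₀).2 = w0.2)
include ha₀ hau₀ hb₀ hbz₀ hv₀ hw₀

theorem std_z : a₀ * b₀ * z = z * (a₀ * b₀) := mul_comm_z (P.S.commQ ha₀) hbz₀

theorem std_notMem : a₀ * b₀ ∉ Q := fun h => by
  have hb : b₀ ∈ Q := by simpa using mul_mem (inv_mem ha₀) h
  have h2 := P.ww_of_inR (P.inter hb hb₀)
  rw [hw₀] at h2
  exact absurd h2 (by decide +kernel)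

theorem std_act (x : V) : act Q φ (a₀ * b₀) x = rad0 x := by
  rw [P.S.act_mul (P.S.commQ ha₀) hbz₀, P.S.act_of_mem ha₀]
  refine (P.isRad hb₀ hbz₀).eq_of_cvec ⟨rad0_add, rad0_qf, by decide +kernel,
    fun y hy => ?_⟩ ?_ x
  · rw [rad0_perp y hy, Prod.snd_add]
    rcases z2_cases' (bf y w0) with e | e <;> rw [e] <;> simp [sm]
    rfl
  · exact hw₀.trans (by decide +kernel)

theorem std_rel {a b : G} (ha : a ∈ Q) (hau : a * u = u * a) (hb : b ∈ Q')
    (hbz : b * z = z * b) :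
    P.Rel (a * b) (a₀ * b₀) (bf (φ a) v0 + bf (φ a) w0 + bf v0 (P.ww b))
      (bf (P.ww b) w0 + bf (φ a) w0 + bf v0 (P.ww b)) := by
  have h := P.rel ha hau hb hbz ha₀ hau₀ hb₀ hbz₀
  rw [hv₀, bf_congr ((P.comm_u ha).1 hau) (P.ww_perp hb₀ hbz₀) base_facts.2.2.2.2.2.1 hw₀,
    bf_congr (P.ww_perp hb hbz) (P.ww_perp hb₀ hbz₀) base_facts.2.2.2.2.2.1 hw₀] at h
  exact h

/-- The standard involution squares to one. -/
theorem std_sq : a₀ * b₀ * (a₀ * b₀) = 1 := by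
  have hw : bf v0 (P.ww b₀) = bf v0 w0 :=
    bf_congr base_facts.2.2.2.2.1 (P.ww_perp hb₀ hbz₀) base_facts.2.2.2.2.2.1 hw₀
  have e : b₀ * a₀ = P.cz 1 1 * (a₀ * b₀) := by
    rw [P.comm ha₀ hau₀ hb₀ hbz₀, hv₀, hw, base_facts.2.2.2.2.2.2.2.2.1, P.zp_zu, ← mul_assoc,
      ← P.cz_add, z2_self, P.cz_zero, one_mul]
  calc a₀ * b₀ * (a₀ * b₀) = a₀ * (b₀ * a₀) * b₀ := by group
    _ = a₀ * P.cz 1 1 * a₀ * (b₀ * b₀) := by rw [e]; group
    _ = P.cz 1 1 * (a₀ * a₀) * (b₀ * b₀) := by rw [P.cz_comm (P.S.commQ ha₀) hau₀]; group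
    _ = P.cz 1 1 * P.cz 1 0 * P.cz 0 1 := by
      rw [P.S.hsq a₀ ha₀, hv₀, P.sq hb₀ hbz₀,
        qf_congr (P.ww_perp hb₀ hbz₀) base_facts.2.2.2.2.2.1 hw₀,
        base_facts.2.2.2.2.2.2.1, base_facts.2.2.2.2.2.2.2.1]
      simp [cz, zp_zero, zp_one, mul_assoc]
    _ = 1 := by rw [← P.cz_add, ← P.cz_add, ← P.cz_zero]; congr 1

/-- An involution of `C(z)` lies in a conjugate of `Q` attached to a member of `Q`, or is conjugate
to the standard one. -/
theorem invol_cases {t : G} (htz : t * z = z * t) (htt : t * t = 1) (htQ : t ∉ Q) :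
    (∃ g : G, g * z * g⁻¹ ∈ Q ∧ g * z * g⁻¹ ≠ z ∧ t ∈ Q.map (MulAut.conj g).toMonoidHom) ∨
      ∃ h : G, h * z = z * h ∧ h * t * h⁻¹ = a₀ * b₀ := by
  obtain ⟨k, hk, a, ha, b, hb, hau, hbz, hab, hbne, hqa, hqb⟩ := P.cases_of_invol htz htt htQ
  obtain ⟨g, hg, hgQ⟩ := P.conj
  have hki := inv_comm_z hk
  -- transport back along `k`
  have back : ∀ g₁ : G, g₁ * z * g₁⁻¹ ∈ Q → g₁ * z * g₁⁻¹ ≠ z →
      a * b ∈ Q.map (MulAut.conj g₁).toMonoidHom →
      ∃ g : G, g * z * g⁻¹ ∈ Q ∧ g * z * g⁻¹ ≠ z ∧ t ∈ Q.map (MulAut.conj g).toMonoidHom := by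
    intro g₁ h1 h2 h3
    have e : k⁻¹ * g₁ * z * (k⁻¹ * g₁)⁻¹ = k⁻¹ * (g₁ * z * g₁⁻¹) * k⁻¹⁻¹ := by group
    refine ⟨k⁻¹ * g₁, by rw [e]; exact P.S.norm hki h1, fun h => h2 ?_, ?_⟩
    · rw [e] at h
      calc g₁ * z * g₁⁻¹ = k * (k⁻¹ * (g₁ * z * g₁⁻¹) * k⁻¹⁻¹) * k⁻¹ := by group
        _ = z := by rw [h, P.S.conjZ hk]
    · obtain ⟨q, hq, hq'⟩ := h3
      refine ⟨q, hq, ?_⟩
      simp only [MulEquiv.coe_toMonoidHom, MulAut.conj_apply] at hq' ⊢
      calc k⁻¹ * g₁ * q * (k⁻¹ * g₁)⁻¹ = k⁻¹ * (g₁ * q * g₁⁻¹) * k := by group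
        _ = t := by rw [hq', ← hab]; group
  rcases z2_cases' (bf (φ a) (P.ww b)) with e | e
  · left
    rw [e] at hqa hqb
    rcases sing_orth _ _ ((P.comm_u ha).1 hau) (P.ww_perp hb hbz) hqa hqb e with h | h | h
    · refine back g (by rw [hg]; exact P.mem) (by rw [hg]; exact P.une) ?_
      rw [← hgQ]
      exact mul_mem (InR.mem P (P.inR_of_phi ha hau h)).2 hb
    · exact absurd h hbne
    · have hc : P.yv * b * P.yv⁻¹ * b⁻¹ ∈ Q := P.cc_mem hbz
      have hcu : P.yv * b * P.yv⁻¹ * b⁻¹ * u = u * (P.yv * b * P.yv⁻¹ * b⁻¹) := P.cc_u hb hbz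
      have hr : P.InR (a * (P.yv * b * P.yv⁻¹ * b⁻¹)⁻¹) := by
        refine P.inR_of_phi (mul_mem ha (inv_mem hc)) (mul_comm_z hau (inv_comm_z hcu)) ?_
        rw [P.S.hadd a ha _ (inv_mem hc), P.S.phi_inv hc, P.cc_phi hbz, Prod.snd_add, h,
          ← Prod.snd_add, v_self]
        rfl
      refine back (P.yv * g) ?_ ?_ ?_
      · rw [show P.yv * g * z * (P.yv * g)⁻¹ = P.yv * (g * z * g⁻¹) * P.yv⁻¹ by group, hg]
        exact P.S.norm (P.S.commQ P.yv_mem) P.mem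
      · rw [show P.yv * g * z * (P.yv * g)⁻¹ = P.yv * (g * z * g⁻¹) * P.yv⁻¹ by group, hg, P.y_u]
        intro h'
        exact P.T.zne (mul_eq_right.1 h')
      · rw [show (MulAut.conj (P.yv * g)).toMonoidHom = (MulAut.conj P.yv).toMonoidHom.comp
            (MulAut.conj g).toMonoidHom by ext x; simp [mul_assoc], ← Subgroup.map_map, ← hgQ,
          show a * b = a * (P.yv * b * P.yv⁻¹ * b⁻¹)⁻¹ * (P.yv * b * P.yv⁻¹) by group]
        refine mul_mem ?_ ⟨b, hb, rfl⟩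
        have hu : u ∈ Q'.map (MulAut.conj P.yv).toMonoidHom := P.third.mem'
        have hz' : z ∈ Q'.map (MulAut.conj P.yv).toMonoidHom :=
          ⟨z, P.mem', by simp [P.S.conjZ (P.S.commQ P.yv_mem)]⟩
        rcases hr with h | h | h | h <;> rw [h]
        exacts [one_mem _, hz', hu, mul_mem hz' hu]
  · right
    rw [e] at hqa hqb
    obtain ⟨p, hp, hpv, hpw⟩ :=
      pairWords_move _ _ ((P.comm_u ha).1 hau) (P.ww_perp hb hbz) hqa hqb e
    obtain ⟨hgood, hfix⟩ := pairWords_good p hp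
    obtain ⟨h, hh, hh'⟩ := P.S.exists_word p hgood
    obtain ⟨h₁, hh₁, hhu, hh₁'⟩ := P.exists_fix hh (by rw [hh', hfix])
    obtain ⟨hb1, hbz1, hw1⟩ := P.conj_N hh₁ hhu hb₀ hbz₀
    have ha1 : h₁ * a₀ * h₁⁻¹ ∈ Q := P.S.norm hh₁ ha₀
    have hau1 : h₁ * a₀ * h₁⁻¹ * u = u * (h₁ * a₀ * h₁⁻¹) :=
      mul_comm_z (mul_comm_z hhu hau₀) (inv_comm_z hhu)
    have hav : (φ (h₁ * a₀ * h₁⁻¹)).2 = (φ a).2 := by
      rw [← P.S.act_phi hh₁ ha₀, hv₀, hh₁', hh', hpv]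
    have hbw : (P.ww (h₁ * b₀ * h₁⁻¹)).2 = (P.ww b).2 := by
      rw [hw1, P.act_snd hh₁ hhu (P.ww_perp hb₀ hbz₀) base_facts.2.2.2.2.2.1 hw₀, hh₁', hh', hpw]
    set a₁ := h₁ * a₀ * h₁⁻¹ with ha₁def
    set b₁ := h₁ * b₀ * h₁⁻¹ with hb₁def
    have hra : P.InR (a₁⁻¹ * a) := P.inR_of_phi (mul_mem (inv_mem ha1) ha)
      (mul_comm_z (inv_comm_z hau1) hau) (by
        rw [P.S.hadd _ (inv_mem ha1) a ha, P.S.phi_inv ha1, Prod.snd_add, hav, ← Prod.snd_add,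
          v_self]
        rfl)
    have hrb : P.InR (b₁⁻¹ * b) := P.mem_of_ww (mul_mem (inv_mem hb1) hb)
      (mul_comm_z (inv_comm_z hbz1) hbz) (by
        have hinv : (P.ww b₁⁻¹).2 = (P.ww b₁).2 := by
          have h0 := P.ww_mul (inv_mem hb1) (inv_comm_z hbz1) hb1 hbz1
          rw [inv_mul_cancel, P.ww_one] at h0
          calc (P.ww b₁⁻¹).2 = (P.ww b₁⁻¹).2 + ((P.ww b₁).2 + (P.ww b₁).2) := by
                rw [← Prod.snd_add, v_self]; simp
            _ = (P.ww b₁).2 := by rw [← add_assoc, ← h0, zero_add]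
        rw [P.ww_mul (inv_mem hb1) (inv_comm_z hbz1) hb hbz, hinv, hbw, ← Prod.snd_add, v_self]
        rfl)
    obtain ⟨i₁, j₁, e₁⟩ := InR.exists_zp P hra
    obtain ⟨i₂, j₂, e₂⟩ := InR.exists_zp P hrb
    have hab1 : a * b = a₁ * b₁ * P.cz (i₁ + i₂) (j₁ + j₂) := by
      calc a * b = a₁ * (a₁⁻¹ * a) * (b₁ * (b₁⁻¹ * b)) := by group
        _ = a₁ * (P.cz i₁ j₁ * b₁) * P.cz i₂ j₂ := by rw [e₁, e₂]; simp [cz, mul_assoc]
        _ = a₁ * b₁ * (P.cz i₁ j₁ * P.cz i₂ j₂) := by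
          rw [← P.cz_comm hbz1 (P.T.commQ hb1)]; group
        _ = _ := by rw [← P.cz_add]
    -- a member of `C_Q(u)` moves `a₁ b₁` to `a b`
    obtain ⟨x, hx, hxv, hxw⟩ := choose_dual _ _ ((P.comm_u ha1).1 hau1) (P.ww_perp hb1 hbz1) (by
      rw [bf_congr ((P.comm_u ha1).1 hau1) (P.ww_perp hb1 hbz1) (P.ww_perp hb hbz) hbw,
        bf_symm, bf_congr (P.ww_perp hb hbz) ((P.comm_u ha1).1 hau1) ((P.comm_u ha).1 hau) hav,
        bf_symm, e]) ((i₁ + i₂) + (j₁ + j₂)) (j₁ + j₂)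
    obtain ⟨c, hc, rfl⟩ := P.S.hsurj x
    have hcu := (P.comm_u hc).2 hx
    have hrel := P.rel hc hcu Q'.one_mem (Commute.one_left z).eq ha1 hau1 hb1 hbz1
    have hw10 : bf (φ a₁) (P.ww 1) = 0 :=
      zero_e1_bf _ _ ((P.comm_u ha1).1 hau1) P.ww_one (P.ww_perp Q'.one_mem (Commute.one_left z).eq)
    have hw11 : bf (P.ww 1) (P.ww b₁) = 0 := by
      rw [bf_symm]
      exact zero_e1_bf _ _ (P.ww_perp hb1 hbz1) P.ww_one
        (P.ww_perp Q'.one_mem (Commute.one_left z).eq)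
    rw [Pair.Rel, mul_one, hxv, hxw, hw10, hw11, add_zero, zero_add, add_zero] at hrel
    have hz2 : i₁ + i₂ + (j₁ + j₂) + (j₁ + j₂) = i₁ + i₂ := by
      rw [add_assoc, z2_self, add_zero]
    rw [hz2] at hrel
    refine ⟨(c * h₁)⁻¹ * k, mul_comm_z (inv_comm_z (mul_comm_z (P.S.commQ hc) hh₁)) hk, ?_⟩
    have hcm : a₁ * b₁ * P.cz (i₁ + i₂) (j₁ + j₂) = c * (a₁ * b₁) * c⁻¹ := by
      rw [hrel]
      calc a₁ * b₁ * P.cz (i₁ + i₂) (j₁ + j₂)
          = P.cz (i₁ + i₂) (j₁ + j₂) * (a₁ * b₁) := P.cz_comm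
            (mul_comm_z (P.S.commQ ha1) hbz1) (mul_comm_z hau1 (P.T.commQ hb1)) _ _
        _ = _ := by group
    calc (c * h₁)⁻¹ * k * t * ((c * h₁)⁻¹ * k)⁻¹
        = h₁⁻¹ * c⁻¹ * (k * t * k⁻¹) * c * h₁ := by group
      _ = h₁⁻¹ * c⁻¹ * (c * (a₁ * b₁) * c⁻¹) * c * h₁ := by rw [hab, hab1, hcm]
      _ = a₀ * b₀ := by rw [ha₁def, hb₁def]; group

theorem rad_commute {h : G} (hh : h * z = z * h) (ht : h * (a₀ * b₀) = a₀ * b₀ * h) :
    h * u * h⁻¹ = u ∨ h * u * h⁻¹ = u * z := by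
  have hts := P.std_z ha₀ hau₀ hb₀ hbz₀ hv₀ hw₀
  have hact := P.std_act ha₀ hau₀ hb₀ hbz₀ hv₀ hw₀
  have hcom : ∀ x, act Q φ h (rad0 x) = rad0 (act Q φ h x) := fun x => by
    rw [← hact, ← hact, ← P.S.act_mul hh hts, ← P.S.act_mul hts hh, ht]
  have he : act Q φ h e1 = e1 := by
    by_contra hne
    have hne0 : act Q φ h e1 ≠ 0 := fun e => by
      have := congrArg (act Q φ h⁻¹) e
      rw [P.S.act_inv_left hh] at this
      have h0 := P.S.act_add (inv_comm_z hh) 0 0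
      rw [add_zero] at h0
      exact base_facts.2.2.2.2.2.2.2.2.2.2.1 (this.trans (left_eq_add.1 h0))
    obtain ⟨y, hy, hy0, hyv⟩ := rad0_only (act Q φ h e1)
      (by rw [P.S.act_qf hh]; exact base_facts.1) hne0 hne
    have hyp : bf (act Q φ h⁻¹ y) e1 = 0 := by
      rw [← P.S.act_bf hh, P.S.act_inv_right hh, hy]
    have hrad : rad0 (act Q φ h⁻¹ y) + act Q φ h⁻¹ y =
        sm (bf (act Q φ h⁻¹ y) w0) e1 := by
      rw [rad0_perp _ hyp, add_comm, ← add_assoc, v_self, zero_add]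
    have h2 := congrArg (act Q φ h) hrad
    rw [P.S.act_add hh, hcom, P.S.act_inv_right hh, additive_sm (P.S.act_add hh)] at h2
    rcases z2_cases' (bf (act Q φ h⁻¹ y) w0) with e | e <;> rw [e] at h2
    · exact hy0 (h2.trans (if_neg (by decide)))
    · exact hyv (h2.trans (if_pos rfl))
  refine P.S.phi_eq (P.S.norm hh P.mem) P.mem ?_
  rw [← P.S.act_phi hh P.mem, P.he, he]

theorem cent_decomp {h : G} (hh : h * z = z * h) (hu : h * u = u * h)
    (ht : h * (a₀ * b₀) = a₀ * b₀ * h) :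
    ∃ a ∈ Q, ∃ b ∈ Q', a * u = u * a ∧ b * z = z * b ∧ h = a * b := by
  obtain ⟨hb1, hbz1, hw1⟩ := P.conj_N hh hu hb₀ hbz₀
  have ha1 := P.S.norm hh ha₀
  have hau1 : h * a₀ * h⁻¹ * u = u * (h * a₀ * h⁻¹) :=
    mul_comm_z (mul_comm_z hu hau₀) (inv_comm_z hu)
  have heq : a₀⁻¹ * (h * a₀ * h⁻¹) = b₀ * (h * b₀ * h⁻¹)⁻¹ := by
    have e : h * a₀ * h⁻¹ * (h * b₀ * h⁻¹) = a₀ * b₀ := by
      calc h * a₀ * h⁻¹ * (h * b₀ * h⁻¹) = h * (a₀ * b₀) * h⁻¹ := by group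
        _ = a₀ * b₀ := by rw [ht, mul_inv_cancel_right]
    calc a₀⁻¹ * (h * a₀ * h⁻¹)
        = a₀⁻¹ * (h * a₀ * h⁻¹ * (h * b₀ * h⁻¹)) * (h * b₀ * h⁻¹)⁻¹ := by group
      _ = b₀ * (h * b₀ * h⁻¹)⁻¹ := by rw [e]; group
  have hr : P.InR (a₀⁻¹ * (h * a₀ * h⁻¹)) :=
    P.inter (mul_mem (inv_mem ha₀) ha1) (heq ▸ mul_mem hb₀ (inv_mem hb1))
  have hperp : ∀ x, bf x e1 = 0 → bf (act Q φ h x) e1 = 0 := fun x hx => by
    conv_lhs => rw [← P.act_u hh hu]
    rw [P.S.act_bf hh, hx]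
  have hv : (act Q φ h v0).2 = v0.2 := by
    have := (InR.phi_snd P hr).1
    rw [P.S.hadd _ (inv_mem ha₀) _ ha1, P.S.phi_inv ha₀, ← P.S.act_phi hh ha₀, hv₀,
      Prod.snd_add] at this
    calc (act Q φ h v0).2 = (v0.2 + v0.2) + (act Q φ h v0).2 := by
          rw [← Prod.snd_add, v_self]; simp
      _ = v0.2 := by rw [add_assoc, this, add_zero]
  have hw : (act Q φ h w0).2 = w0.2 := by
    have := P.ww_of_inR (heq ▸ hr)
    have hinv : (P.ww (h * b₀ * h⁻¹)⁻¹).2 = (P.ww (h * b₀ * h⁻¹)).2 := by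
      have h0 := P.ww_mul (inv_mem hb1) (inv_comm_z hbz1) hb1 hbz1
      rw [inv_mul_cancel, P.ww_one] at h0
      calc (P.ww (h * b₀ * h⁻¹)⁻¹).2 = (P.ww (h * b₀ * h⁻¹)⁻¹).2 +
            ((P.ww (h * b₀ * h⁻¹)).2 + (P.ww (h * b₀ * h⁻¹)).2) := by
            rw [← Prod.snd_add, v_self]; simp
        _ = (P.ww (h * b₀ * h⁻¹)).2 := by rw [← add_assoc, ← h0, zero_add]
    rw [P.ww_mul hb₀ hbz₀ (inv_mem hb1) (inv_comm_z hbz1), hinv, hw1,
      P.act_snd hh hu (P.ww_perp hb₀ hbz₀) base_facts.2.2.2.2.2.1 hw₀, hw₀] at this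
    calc (act Q φ h w0).2 = (w0.2 + w0.2) + (act Q φ h w0).2 := by
          rw [← Prod.snd_add, v_self]; simp
      _ = w0.2 := by rw [add_assoc, this, add_zero]
  obtain ⟨h4, h8, h4v, h4w, h8v, h8w, hq4, hq8, h48⟩ := stab_base
  have c4 : ∀ (x : V) (w : V), bf x e1 = 0 → bf w e1 = 0 → (act Q φ h w).2 = w.2 →
      bf (act Q φ h x) w = bf x w := fun x w hx hw' e => by
    rw [bf_congr (hperp x hx) hw' (hperp w hw') e.symm, P.S.act_bf hh]
  have hstab := stab_pair (act Q φ h (code 4)) (act Q φ h (code 8)) (hperp _ h4) (hperp _ h8)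
    (by rw [c4 _ _ h4 base_facts.2.2.2.2.1 hv, h4v])
    (by rw [c4 _ _ h4 base_facts.2.2.2.2.2.1 hw, h4w])
    (by rw [c4 _ _ h8 base_facts.2.2.2.2.1 hv, h8v])
    (by rw [c4 _ _ h8 base_facts.2.2.2.2.2.1 hw, h8w])
    (by rw [P.S.act_qf hh, hq4]) (by rw [P.S.act_qf hh, hq8]) (by rw [P.S.act_bf hh, h48])
  -- a map agreeing with the identity on the spanning vectors
  have hdec : ∀ x : V, bf x e1 = 0 → x.1.2 = 0 := by decide +kernel
  have hrad : ∀ f : V → V, (∀ x y, f (x + y) = f x + f y) → (∀ x, qf (f x) = qf x) →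
      f e1 = e1 → (f (code 4)).2 = (code 4).2 → (f (code 8)).2 = (code 8).2 →
      (f v0).2 = v0.2 → (f w0).2 = w0.2 → IsRad f := by
    intro f hf hfq hfe h4' h8' hv' hw'
    refine ⟨hf, hfq, hfe, fun x hx => ?_⟩
    have hsm : ∀ (c : ZMod 2) (y : V), (f y).2 = y.2 → (f (sm c y)).2 = (sm c y).2 := by
      intro c y hy
      rw [additive_sm hf]
      rcases z2_cases' c with rfl | rfl
      · simp [sm]
      · simpa [sm] using hy
    rw [decomp x, hdec x hx]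
    simp only [hf, Prod.snd_add]
    rw [hsm _ (code 1) (by rw [show code 1 = e1 from rfl, hfe]), hsm _ (code 4) h4',
      hsm _ (code 8) h8', hsm _ (code 16) hv', hsm _ (code 32) hw']
    have h2 : (f (sm 0 (code 2))).2 = (sm 0 (code 2)).2 := by
      rw [additive_sm hf]; simp [sm]
    rw [h2]
  rcases hstab with ⟨e4, e8⟩ | ⟨e4, e8⟩
  · have hR := hrad _ (P.S.act_add hh) (P.S.act_qf hh) (P.act_u hh hu) e4 e8 hv hw
    obtain ⟨b, hb, hbz, hbw⟩ := P.exists_ww hR.cvec_perp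
    have hq : h * b⁻¹ ∈ Q := P.S.mem_of_act_id (mul_comm_z hh (inv_comm_z hbz)) fun x => by
      rw [P.S.act_mul hh (inv_comm_z hbz), hR.eq_of_cvec (P.isRad hb hbz) hbw.symm,
        P.S.act_inv_right hbz]
    exact ⟨_, hq, b, hb, mul_comm_z hu (inv_comm_z (P.T.commQ hb)), hbz, by group⟩
  · exfalso
    have hd : qf d0 = 1 := base_facts.2.2.2.2.2.2.2.2.2.1
    have hfix2 : ∀ y y' : V, bf y e1 = 0 → bf y' e1 = 0 → y.2 = y'.2 →
        (rf d0 y).2 = (rf d0 y').2 := by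
      intro y y' hy hy' e
      rcases snd_congr y y' hy hy' e with rfl | rfl
      · rfl
      · rw [rf_add, rf_d0_fix.1, Prod.snd_add, show e1.2 = (0 : Pl × Pl) from rfl, add_zero]
    have hperp' : ∀ y, bf y e1 = 0 → bf (rf d0 y) e1 = 0 := fun y hy => by
      conv_lhs => rw [← rf_d0_fix.1]
      rw [rf_bf hd, hy]
    have hR := hrad (fun x => rf d0 (act Q φ h x))
      (fun x y => by show rf d0 _ = _; rw [P.S.act_add hh, rf_add])
      (fun x => by show qf (rf d0 _) = _; rw [rf_qf hd, P.S.act_qf hh])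
      (by show rf d0 _ = _; rw [P.act_u hh hu, rf_d0_fix.1])
      (by show (rf d0 _).2 = _; rw [hfix2 _ _ (hperp _ h4) (hperp' _ h4) e4, rf_rf])
      (by show (rf d0 _).2 = _; rw [hfix2 _ _ (hperp _ h8) (hperp' _ h8) e8, rf_rf])
      (by show (rf d0 _).2 = _
          rw [hfix2 _ _ (hperp _ base_facts.2.2.2.2.1) base_facts.2.2.2.2.1 hv, rf_d0_fix.2.1])
      (by show (rf d0 _).2 = _
          rw [hfix2 _ _ (hperp _ base_facts.2.2.2.2.2.1) base_facts.2.2.2.2.2.1 hw,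
            rf_d0_fix.2.2.1])
    obtain ⟨b, hb, hbz, hbw⟩ := P.exists_ww hR.cvec_perp
    have hz' := mul_comm_z hh (inv_comm_z hbz)
    have hact : ∀ x, act Q φ (h * b⁻¹) x = rf d0 x := fun x => by
      have e : rf d0 (act Q φ h (act Q φ b⁻¹ x)) = act Q φ b (act Q φ b⁻¹ x) :=
        hR.eq_of_cvec (P.isRad hb hbz) hbw.symm _
      have h' := congrArg (rf d0) e
      rw [rf_rf, P.S.act_inv_right hbz] at h'
      rw [P.S.act_mul hh (inv_comm_z hbz), h']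
    obtain ⟨v, hv0', hvq, hvf, hvp⟩ := P.S.exists_witness hz'
      (fun x => by rw [hact, hact, rf_rf])
      ⟨code 4, by rw [hact]; decide +kernel⟩
    rw [hact] at hvf
    rcases refl_not_rad v hvq hv0' with h' | ⟨x, hx, h0, h1⟩
    · exact h' hvf
    · rcases hvp x hx with e | e <;> rw [hact] at e
      · exact h0 (by rw [e, v_self])
      · exact h1 (by rw [e, add_right_comm, v_self, zero_add])

end Std

end Pair

end CfsgLib.InvChar.SuzType
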