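import Cfsg.Agent.Lib.InvChar.SuzType.Classes

/-!
A central involution of a group of Suzuki type is not conjugate to the standard involution outside
the extraspecial group, and every involution is conjugate to one of the two.
-/

set_option autoImplicit false
set_option linter.unusedSectionVars false

namespace CfsgLib.InvChar.SuzType

open Subgroup CfsgLib.PLocal.LargeExtra

variable {G : Type*} [Group G] [Finite G] {z u : G} {Q Q' : Subgroup G} {φ φ' : G → V}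

theorem map_conj_map (g h : G) (H : Subgroup G) :
    (H.map (MulAut.conj h).toMonoidHom).map (MulAut.conj g).toMonoidHom =
      H.map (MulAut.conj (g * h)).toMonoidHom := by
  rw [Subgroup.map_map]
  congr 1
  ext x; simp [mul_assoc]

/-- Every involution is conjugate into the centraliser of the central one. -/
theorem exists_conj_centralizer (S : Data z Q φ) {t : G} (ht : orderOf t = 2) :
    ∃ g : G, g * t * g⁻¹ * z = z * (g * t * g⁻¹) := by
  have : Fact (Nat.Prime 2) := ⟨Nat.prime_two⟩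
  obtain ⟨P0, hP0⟩ := S.pack.ext.1.1.exists_le_sylow
  obtain ⟨P1, hP1⟩ := (IsPGroup.of_card (p := 2) (n := 1)
    (show Nat.card ↥(zpowers t) = 2 ^ 1 by rw [Nat.card_zpowers, ht]; rfl)).exists_le_sylow
  obtain ⟨τ, hτ⟩ := MulAction.exists_smul_eq G P1 P0
  have hmem : τ * t * τ⁻¹ ∈ (P0 : Subgroup G) := by
    rw [← hτ, Sylow.coe_subgroup_smul]
    exact ⟨t, hP1 (mem_zpowers t), rfl⟩
  have : Nontrivial ↥(P0 : Subgroup G) :=
    ⟨⟨⟨z, hP0 S.zQ⟩, 1, fun e => S.zne (congrArg Subtype.val e)⟩⟩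
  obtain ⟨c, hc, hc1⟩ := (bot_or_exists_ne_one (center ↥(P0 : Subgroup G))).resolve_left
    (fun e => by
      have := P0.isPGroup'.center_nontrivial
      rw [e] at this
      exact not_subsingleton ↥(⊥ : Subgroup ↥(P0 : Subgroup G)) inferInstance)
  have hcQ : ∀ q ∈ (P0 : Subgroup G), (c : G) * q = q * c := fun q hq =>
    (congrArg Subtype.val (Subgroup.mem_center_iff.1 hc ⟨q, hq⟩)).symm
  have hcz : (c : G) = z := by
    have hm : (c : G) ∈ Q := S.pack.cent (mem_centralizer_iff.2 fun q hq => (hcQ q (hP0 hq)).symm)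
    rcases S.pack.eq_of_central hm fun b hb => hcQ b (hP0 hb) with e | e
    · exact absurd (Subtype.ext e) hc1
    · exact e
  exact ⟨τ, by rw [← hcz]; exact (hcQ _ hmem).symm⟩

namespace Pair

variable (P : Pair z u Q Q' φ φ')
include P

/-- An involution of `Q` is `z` or conjugate to `z`. -/
theorem isConj_of_mem {x : G} (hx : x ∈ Q) (hxx : x * x = 1) (hx1 : x ≠ 1) : IsConj x z := by
  by_cases hxz : x = z
  · rw [hxz]
  obtain ⟨g, hg, -⟩ := P.conj
  have hu : IsConj u z := (isConj_iff.2 ⟨g, hg⟩).symm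
  obtain ⟨k, hk, hk'⟩ := P.S.exists_to_e1 (P.S.sing_of_invol hx hxx)
    fun e => (P.S.hzero x hx e).elim hx1 hxz
  rw [P.S.act_phi hk hx, ← P.he] at hk'
  rcases P.S.phi_eq (P.S.norm hk hx) P.mem hk' with e | e
  · exact (isConj_iff.2 ⟨k, e⟩).trans hu
  · refine ((isConj_iff.2 ⟨k, e⟩).trans ?_).trans hu
    exact (isConj_iff.2 ⟨P.yv, P.y_u⟩).symm

section Std

variable {a₀ b₀ : G} (ha₀ : a₀ ∈ Q) (hau₀ : a₀ * u = u * a₀) (hb₀ : b₀ ∈ Q')
  (hbz₀ : b₀ * z = z * b₀) (hv₀ : φ a₀ = v0) (hw₀ : (P.ww b₀).2 = w0.2)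
include ha₀ hau₀ hb₀ hbz₀ hv₀ hw₀

/-- The standard involution lies in no group attached to a member of `Q`. -/
theorem std_notMem_map {g : G} (hg : g * z * g⁻¹ ∈ Q) (hne : g * z * g⁻¹ ≠ z)
    (ht : a₀ * b₀ ∈ Q.map (MulAut.conj g).toMonoidHom) : False := by
  have hts := P.std_z ha₀ hau₀ hb₀ hbz₀ hv₀ hw₀
  obtain ⟨ψ, ψ', P1⟩ := exists_pair P.S hg hne
  obtain ⟨g₀, hg₀, hQ'⟩ := P.conj
  set x := g * z * g⁻¹ with hx
  have hxx : x * x = 1 := by
    rw [hx, show g * z * g⁻¹ * (g * z * g⁻¹) = g * (z * z) * g⁻¹ by group, P.S.zz]; group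
  have hx1 : x ≠ 1 := fun e => P.S.zne (conj_eq_one_iff.1 e)
  have hphix : φ x = e1 := by
    by_contra hne'
    obtain ⟨v, hv, hv0, hvx⟩ := rad0_only (φ x) (P.S.sing_of_invol hg hxx)
      (fun e => (P.S.hzero x hg e).elim hx1 hne) hne'
    obtain ⟨y, hy, rfl⟩ := P.S.hsurj v
    have hyx : y * x = x * y := (P.S.commute_iff hy hg).2 hv
    obtain ⟨h1, h2⟩ := P1.comm_mem hy hyx ht hts
    have hR := P1.inter h1 h2
    have e : φ (y * (a₀ * b₀) * y⁻¹ * (a₀ * b₀)⁻¹) = φ y + rad0 (φ y) := by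
      rw [show y * (a₀ * b₀) * y⁻¹ * (a₀ * b₀)⁻¹ = y * (a₀ * b₀ * y⁻¹ * (a₀ * b₀)⁻¹) by group,
        P.S.hadd y hy _ (P.S.norm hts (inv_mem hy)), ← P.S.act_phi hts (inv_mem hy),
        P.S.phi_inv hy, P.std_act ha₀ hau₀ hb₀ hbz₀ hv₀ hw₀]
    rcases hR with h | h | h | h
    · rw [h, P.S.phi_one] at e; exact hv0 (by rw [add_comm]; exact e.symm)
    · rw [h, P.S.hz] at e; exact hv0 (by rw [add_comm]; exact e.symm)
    · rw [h] at e; exact hvx (by rw [add_comm]; exact e.symm)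
    · rw [h, P.S.hadd z P.S.zQ x hg, P.S.hz, zero_add] at e
      exact hvx (by rw [add_comm]; exact e.symm)
  rcases P.S.phi_eq hg P.mem (hphix.trans P.he.symm) with e | e
  · rw [P.S.pack.map_eq_of_eq (g' := g₀) (e.trans hg₀.symm), ← hQ'] at ht
    have h1 : a₀ ∈ Q' := by simpa using mul_mem ht (inv_mem hb₀)
    have h2 := (InR.phi_snd P (P.inter ha₀ h1)).1
    rw [hv₀] at h2
    exact base_facts.2.2.2.2.2.2.2.2.2.2.2.1 h2
  · rw [P.S.pack.map_eq_of_eq (g' := P.yv * g₀) (e.trans (by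
      rw [show P.yv * g₀ * z * (P.yv * g₀)⁻¹ = P.yv * (g₀ * z * g₀⁻¹) * P.yv⁻¹ by group, hg₀,
        P.y_u])), ← map_conj_map, ← hQ'] at ht
    obtain ⟨q, hq, hq'⟩ := ht
    simp only [MulEquiv.coe_toMonoidHom, MulAut.conj_apply] at hq'
    set c := P.yv * b₀ * P.yv⁻¹ * b₀⁻¹ with hcdef
    have hc : c ∈ Q := P.cc_mem hbz₀
    have h1 : P.yv⁻¹ * (a₀ * c⁻¹) * P.yv ∈ Q :=
      mul_mem (mul_mem (inv_mem P.yv_mem) (mul_mem ha₀ (inv_mem hc))) P.yv_mem
    have h2 : P.yv⁻¹ * (a₀ * c⁻¹) * P.yv = q * b₀⁻¹ := by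
      calc P.yv⁻¹ * (a₀ * c⁻¹) * P.yv = P.yv⁻¹ * (a₀ * b₀) * P.yv * b₀⁻¹ := by rw [hcdef]; group
        _ = q * b₀⁻¹ := by rw [← hq']; group
    have h3 := (InR.phi_snd P (P.inter h1 (h2 ▸ mul_mem hq (inv_mem hb₀)))).1
    rw [P.S.hadd _ (mul_mem (inv_mem P.yv_mem) (mul_mem ha₀ (inv_mem hc))) _ P.yv_mem,
      P.S.hadd _ (inv_mem P.yv_mem) _ (mul_mem ha₀ (inv_mem hc)), P.S.phi_inv P.yv_mem,
      P.S.hadd a₀ ha₀ _ (inv_mem hc), P.S.phi_inv hc, P.cc_phi hbz₀, hv₀,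
      add_comm (φ P.yv) (v0 + P.ww b₀), add_assoc, v_self, add_zero, Prod.snd_add, hw₀] at h3
    exact absurd h3 (by decide +kernel)

/-- No element interchanges `z` and the standard involution. -/
theorem no_swap {g : G} (h1 : g * (a₀ * b₀) * g⁻¹ = z) (h2 : g * z * g⁻¹ = a₀ * b₀) : False := by
  have hts := P.std_z ha₀ hau₀ hb₀ hbz₀ hv₀ hw₀
  have hnQ := P.std_notMem ha₀ hau₀ hb₀ hbz₀ hv₀ hw₀
  obtain ⟨σ, hσ⟩ : ∃ σ : G ≃* G, σ = MulAut.conj g := ⟨_, rfl⟩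
  have σa : ∀ x, σ x = g * x * g⁻¹ := fun x => by rw [hσ]; rfl
  have σt : σ (a₀ * b₀) = z := by rw [σa, h1]
  have σz : σ z = a₀ * b₀ := by rw [σa, h2]
  let InX : G → Prop := fun m => m * z = z * m ∧ m * (a₀ * b₀) = a₀ * b₀ * m
  have σX : ∀ m, InX m → InX (σ m) := fun m hm => by
    have e1 := congrArg σ hm.1
    have e2 := congrArg σ hm.2
    simp only [map_mul, σz, σt] at e1 e2
    exact ⟨e2, e1⟩
  have Xmul : ∀ m n, InX m → InX n → InX (m * n) := fun m n hm hn =>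
    ⟨mul_comm_z hm.1 hn.1, mul_comm_z hm.2 hn.2⟩
  have χmul : ∀ m n, InX m → InX n → σ m * u ≠ u * σ m → σ n * u ≠ u * σ n →
      σ (m * n) * u = u * σ (m * n) := by
    intro m n hm hn hm' hn'
    have k1 : σ m * u * (σ m)⁻¹ = u * z := ((P.rad_commute ha₀ hau₀ hb₀ hbz₀ hv₀ hw₀
      (σX m hm).1 (σX m hm).2).resolve_left fun e => hm' (by rwa [mul_inv_eq_iff_eq_mul] at e))
    have k2 : σ n * u * (σ n)⁻¹ = u * z := ((P.rad_commute ha₀ hau₀ hb₀ hbz₀ hv₀ hw₀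
      (σX n hn).1 (σX n hn).2).resolve_left fun e => hn' (by rwa [mul_inv_eq_iff_eq_mul] at e))
    rw [← mul_inv_eq_iff_eq_mul, map_mul]
    calc σ m * σ n * u * (σ m * σ n)⁻¹ = σ m * (σ n * u * (σ n)⁻¹) * (σ m)⁻¹ := by group
      _ = σ m * u * (σ m)⁻¹ * (σ m * z * (σ m)⁻¹) := by rw [k2]; group
      _ = u := by rw [k1, P.S.conjZ (σX m hm).1, mul_assoc, P.S.zz, mul_one]
  -- the commutator of two elements whose images centralise `u` stays in the four group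
  have stay : ∀ m n i j, InX m → InX n → σ m * u = u * σ m → σ n * u = u * σ n → P.Rel m n i j →
      P.InR (σ (P.cz i j)) := by
    intro m n i j hm hn hm' hn' hrel
    obtain ⟨a, ha, b, hb, hau, hbz, e⟩ :=
      P.cent_decomp ha₀ hau₀ hb₀ hbz₀ hv₀ hw₀ (σX m hm).1 hm' (σX m hm).2
    obtain ⟨a', ha', b', hb', hau', hbz', e'⟩ :=
      P.cent_decomp ha₀ hau₀ hb₀ hbz₀ hv₀ hw₀ (σX n hn).1 hn' (σX n hn).2
    have h := P.rel ha hau hb hbz ha' hau' hb' hbz'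
    have h' := congrArg σ hrel
    simp only [map_mul] at h'
    rw [← e, ← e'] at h
    unfold Rel at h
    rw [h] at h'
    rw [← mul_right_cancel h']
    exact P.inR_cz _ _
  have hRQ : ∀ x, P.InR x → x ∈ Q := fun x hx => (InR.mem P hx).1
  have σzR : ¬ P.InR (σ z) := fun h => hnQ (σz ▸ hRQ _ h)
  have cz10 : P.cz 1 0 = z := by simp [cz, zp_one, zp_zero]
  have cz01 : P.cz 0 1 = u := by simp [cz, zp_one, zp_zero]
  have cz11 : P.cz 1 1 = z * u := by simp [cz, zp_one]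
  have Rmul : ∀ x y, P.InR x → P.InR y → P.InR (x * y) := by
    intro x y hx hy
    obtain ⟨i, j, rfl⟩ := InR.exists_zp P hx
    obtain ⟨k, l, rfl⟩ := InR.exists_zp P hy
    rw [show zp z i * zp u j * (zp z k * zp u l) = P.cz i j * P.cz k l from rfl, ← P.cz_add]
    exact P.inR_cz _ _
  -- a linear functional that vanishes on every commutator that stays
  obtain ⟨ℓ, hℓ, hℓ'⟩ : ∃ ℓ : ZMod 2 → ZMod 2 → ZMod 2, ((ℓ = fun i _ => i) ∨ ℓ = fun i j => i + j) ∧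
      ∀ i j, P.InR (σ (P.cz i j)) → ℓ i j = 0 := by
    by_cases hu : P.InR (σ u)
    · refine ⟨fun i _ => i, Or.inl rfl, fun i j h => ?_⟩
      rcases z2_cases' i with rfl | rfl
      · rfl
      · exfalso
        rcases z2_cases' j with rfl | rfl
        · exact σzR (by rwa [cz10] at h)
        · refine σzR ?_
          have := Rmul _ _ h hu
          rwa [cz11, ← map_mul, mul_assoc, P.T.zz, mul_one] at this
    · refine ⟨fun i j => i + j, Or.inr rfl, fun i j h => ?_⟩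
      rcases z2_cases' i with rfl | rfl <;> rcases z2_cases' j with rfl | rfl
      · rfl
      · exact absurd (by rwa [cz01] at h) hu
      · exact absurd (by rwa [cz10] at h) σzR
      · rfl
  -- elements of the centraliser with prescribed parameters
  have mk : ∀ x y : V, bf x e1 = 0 → bf y e1 = 0 →
      bf x v0 + bf x w0 + bf v0 y = 0 → bf y w0 + bf x w0 + bf v0 y = 0 →
      ∃ a ∈ Q, ∃ b ∈ Q', a * u = u * a ∧ b * z = z * b ∧ φ a = x ∧ (P.ww b).2 = y.2 ∧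
        InX (a * b) := by
    intro x y hx hy c1 c2
    obtain ⟨a, ha, rfl⟩ := P.S.hsurj x
    obtain ⟨b, hb, hbz, hw⟩ := P.exists_ww hy
    have hau := (P.comm_u ha).2 hx
    refine ⟨a, ha, b, hb, hau, hbz, rfl, hw, mul_comm_z (P.S.commQ ha) hbz, ?_⟩
    have h := P.std_rel ha₀ hau₀ hb₀ hbz₀ hv₀ hw₀ ha hau hb hbz
    unfold Rel at h
    rw [bf_congr base_facts.2.2.2.2.1 (P.ww_perp hb hbz) hy hw, bf_symm (P.ww b) w0,
      bf_congr base_facts.2.2.2.2.2.1 (P.ww_perp hb hbz) hy hw, bf_symm w0 y, c1, c2, P.cz_zero,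
      one_mul] at h
    exact h
  have rel_eval : ∀ {a b a' b' : G} {x y x' y' : V}, a ∈ Q → b ∈ Q' → a' ∈ Q → b' ∈ Q' →
      a * u = u * a → b * z = z * b → a' * u = u * a' → b' * z = z * b' →
      φ a = x → (P.ww b).2 = y.2 → φ a' = x' → (P.ww b').2 = y'.2 →
      bf y e1 = 0 → bf y' e1 = 0 →
      P.Rel (a * b) (a' * b') (bf x x' + bf x y' + bf x' y) (bf y y' + bf x y' + bf x' y) := by
    intro a b a' b' x y x' y' ha hb ha' hb' hau hbz hau' hbz' hx hy hx' hy' py py'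
    have h := P.rel ha hau hb hbz ha' hau' hb' hbz'
    rw [bf_congr ((P.comm_u ha).1 hau) (P.ww_perp hb' hbz') py' hy',
      bf_congr ((P.comm_u ha').1 hau') (P.ww_perp hb hbz) py hy,
      bf_congr (P.ww_perp hb hbz) (P.ww_perp hb' hbz') py' hy', bf_symm (P.ww b) y',
      bf_congr py' (P.ww_perp hb hbz) py hy, bf_symm y' y, hx, hx'] at h
    exact h
  -- four such elements
  obtain ⟨X, Y, hperp, hX, hval⟩ : ∃ X Y : Fin 4 → V,
      (∀ k, bf (X k) e1 = 0 ∧ bf (Y k) e1 = 0) ∧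
      (∀ k, bf (X k) v0 + bf (X k) w0 + bf v0 (Y k) = 0 ∧
        bf (Y k) w0 + bf (X k) w0 + bf v0 (Y k) = 0) ∧
      ∀ k l, ℓ (bf (X k) (X l) + bf (X k) (Y l) + bf (X l) (Y k))
        (bf (Y k) (Y l) + bf (X k) (Y l) + bf (X l) (Y k)) =
          if (k = 0 ∧ l = 1) ∨ (k = 1 ∧ l = 0) ∨ (k = 2 ∧ l = 3) ∨ (k = 3 ∧ l = 2) then 1
          else 0 := by
    rcases hℓ with rfl | rfl
    · exact ⟨![0, code 8, 0, code 4], ![code 4, 0, code 8, code 4], by decide +kernel,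
        by decide +kernel, by decide +kernel⟩
    · exact ⟨![0, 0, code 4, code 8], ![code 4, code 8, 0, 0], by decide +kernel,
        by decide +kernel, by decide +kernel⟩
  choose A hA B hB hAu hBz hAx hBy hm using
    fun k => mk (X k) (Y k) (hperp k).1 (hperp k).2 (hX k).1 (hX k).2
  let m : Fin 4 → G := fun k => A k * B k
  obtain ⟨I, J, hrel, hval'⟩ : ∃ I J : Fin 4 → Fin 4 → ZMod 2,
      (∀ k l, P.Rel (m k) (m l) (I k l) (J k l)) ∧ ∀ k l, ℓ (I k l) (J k l) =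
        if (k = 0 ∧ l = 1) ∨ (k = 1 ∧ l = 0) ∨ (k = 2 ∧ l = 3) ∨ (k = 3 ∧ l = 2) then 1 else 0 :=
    ⟨_, _, fun k l =>
      rel_eval (hA k) (hB k) (hA l) (hB l) (hAu k) (hBz k) (hAu l) (hBz l) (hAx k) (hBy k) (hAx l)
        (hBy l) (hperp k).2 (hperp l).2, hval⟩
  clear hval
  let χ : Fin 4 → Prop := fun k => σ (m k) * u = u * σ (m k)
  have mu : ∀ k, m k * u = u * m k := fun k => mul_comm_z (hAu k) (P.T.commQ (hB k))
  have central : ∀ k i j, m k * P.cz i j = P.cz i j * m k := fun k =>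
    P.cz_comm (hm k).1 (mu k)
  -- products
  have rel_mul_left : ∀ p q r i j i' j', P.Rel (m p) (m r) i j → P.Rel (m q) (m r) i' j' →
      P.Rel (m p * m q) (m r) (i + i') (j + j') := by
    intro p q r i j i' j' e e'
    unfold Rel at e e' ⊢
    calc m p * m q * m r = m p * (m q * m r) := by group
      _ = m p * P.cz i' j' * (m r * m q) := by rw [e']; group
      _ = P.cz i' j' * (m p * m r) * m q := by rw [central]; group
      _ = P.cz i' j' * P.cz i j * (m r * (m p * m q)) := by rw [e]; group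
      _ = _ := by rw [← P.cz_add, add_comm i', add_comm j']
  have rel_mul_right : ∀ p r s i j i' j', P.Rel p (m r) i j → P.Rel p (m s) i' j' →
      P.Rel p (m r * m s) (i + i') (j + j') := by
    intro p r s i j i' j' e e'
    unfold Rel at e e' ⊢
    calc p * (m r * m s) = p * m r * m s := by group
      _ = P.cz i j * m r * (p * m s) := by rw [e]; group
      _ = P.cz i j * (m r * P.cz i' j') * (m s * p) := by rw [e']; group
      _ = P.cz i j * P.cz i' j' * (m r * m s * p) := by rw [central]; group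
      _ = _ := by rw [← P.cz_add]
  have ℓadd : ∀ i j i' j', ℓ (i + i') (j + j') = ℓ i j + ℓ i' j' := by
    intro i j i' j'
    rcases hℓ with rfl | rfl
    · rfl
    · show i + i' + (j + j') = i + j + (i' + j'); abel
  have hm' : ∀ k, InX (m k) := hm
  have bad : ∀ k l, χ k → χ l → ℓ (I k l) (J k l) = 0 := fun k l hk hl =>
    hℓ' _ _ (stay _ _ _ _ (hm' k) (hm' l) hk hl (hrel k l))
  have combine : ∀ p p' q : Fin 4, ¬ χ p → ¬ χ q →
      (if (p = 0 ∧ p' = 1) ∨ (p = 1 ∧ p' = 0) ∨ (p = 2 ∧ p' = 3) ∨ (p = 3 ∧ p' = 2)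
        then (1 : ZMod 2) else 0) = 1 →
      (if (q = 0 ∧ p' = 1) ∨ (q = 1 ∧ p' = 0) ∨ (q = 2 ∧ p' = 3) ∨ (q = 3 ∧ p' = 2)
        then (1 : ZMod 2) else 0) = 0 →
      (if (p = 0 ∧ p = 1) ∨ (p = 1 ∧ p = 0) ∨ (p = 2 ∧ p = 3) ∨ (p = 3 ∧ p = 2)
        then (1 : ZMod 2) else 0) = 0 →
      (if (q = 0 ∧ p = 1) ∨ (q = 1 ∧ p = 0) ∨ (q = 2 ∧ p = 3) ∨ (q = 3 ∧ p = 2)
        then (1 : ZMod 2) else 0) = 0 → False := by
    intro p p' q hp hq v1 v2 v3 v4
    have hP := χmul _ _ (hm' p) (hm' q) hp hq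
    have r1 := rel_mul_left p q p' _ _ _ _ (hrel p p') (hrel q p')
    by_cases hp' : χ p'
    · have := hℓ' _ _ (stay _ _ _ _ (Xmul _ _ (hm' p) (hm' q)) (hm' p') hP hp' r1)
      rw [ℓadd, hval', hval', v1, v2] at this
      exact absurd this (by decide)
    · have hP' := χmul _ _ (hm' p') (hm' p) hp' hp
      have r2 := rel_mul_left p q p _ _ _ _ (hrel p p) (hrel q p)
      have := hℓ' _ _ (stay _ _ _ _ (Xmul _ _ (hm' p) (hm' q)) (Xmul _ _ (hm' p') (hm' p)) hP hP'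
        (rel_mul_right _ p' p _ _ _ _ r1 r2))
      rw [ℓadd, ℓadd, ℓadd, hval', hval', hval', hval', v1, v2, v3, v4] at this
      exact absurd this (by decide)
  by_cases h01 : χ 0 ∧ χ 1
  · have := bad 0 1 h01.1 h01.2
    rw [hval'] at this
    exact absurd this (by decide)
  by_cases h23 : χ 2 ∧ χ 3
  · have := bad 2 3 h23.1 h23.2
    rw [hval'] at this
    exact absurd this (by decide)
  rcases not_and_or.1 h01 with e | e <;> rcases not_and_or.1 h23 with e' | e'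
  · exact combine 0 1 2 e e' (by decide) (by decide) (by decide) (by decide)
  · exact combine 0 1 3 e e' (by decide) (by decide) (by decide) (by decide)
  · exact combine 1 0 2 e e' (by decide) (by decide) (by decide) (by decide)
  · exact combine 1 0 3 e e' (by decide) (by decide) (by decide) (by decide)

theorem std_not_conj : ¬ IsConj z (a₀ * b₀) := by
  intro hconj
  obtain ⟨g, hg⟩ := isConj_iff.1 hconj.symm
  have hts := P.std_z ha₀ hau₀ hb₀ hbz₀ hv₀ hw₀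
  have hnQ := P.std_notMem ha₀ hau₀ hb₀ hbz₀ hv₀ hw₀
  set z' := g * z * g⁻¹ with hz'
  have hz'z : z' * z = z * z' := by
    rw [hz']
    calc g * z * g⁻¹ * z = g * z * g⁻¹ * (g * (a₀ * b₀) * g⁻¹) := by rw [hg]
      _ = g * (z * (a₀ * b₀)) * g⁻¹ := by group
      _ = g * (a₀ * b₀) * g⁻¹ * (g * z * g⁻¹) := by rw [← hts]; group
      _ = z * (g * z * g⁻¹) := by rw [hg]
  have hz'2 : z' * z' = 1 := by
    rw [hz', show g * z * g⁻¹ * (g * z * g⁻¹) = g * (z * z) * g⁻¹ by group, P.S.zz]; group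
  have hz'Q : z' ∉ Q := fun h => by
    obtain ⟨q, hq, hq'⟩ := P.S.pack.mem_conj h
    simp only [MulEquiv.coe_toMonoidHom, MulAut.conj_apply] at hq'
    refine hnQ ?_
    rw [show a₀ * b₀ = g⁻¹ * (g * (a₀ * b₀) * g⁻¹) * g by group, hg, ← hq']
    simpa [mul_assoc] using hq
  rcases P.invol_cases ha₀ hau₀ hb₀ hbz₀ hv₀ hw₀ hz'z hz'2 hz'Q with
    ⟨g₁, hx, hxne, hzx⟩ | ⟨h, hh, hh'⟩
  · set x := g₁ * z * g₁⁻¹ with hxdef
    have e : g * g₁⁻¹ * x * (g * g₁⁻¹)⁻¹ = z' := by rw [hxdef, hz']; group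
    have hx2 := (P.S.pack.map g₁).mem_conj (g := g * g₁⁻¹) (e.symm ▸ hzx)
    rw [map_conj_map, show g * g₁⁻¹ * g₁ = g by group] at hx2
    obtain ⟨q, hq, hqx⟩ := hx2
    simp only [MulEquiv.coe_toMonoidHom, MulAut.conj_apply] at hqx
    obtain ⟨q₂, hq₂, hq₂'⟩ := P.S.pack.mem_conj hx
    simp only [MulEquiv.coe_toMonoidHom, MulAut.conj_apply] at hq₂'
    have he : g⁻¹ * g₁ * z * (g⁻¹ * g₁)⁻¹ = q := by
      calc g⁻¹ * g₁ * z * (g⁻¹ * g₁)⁻¹ = g⁻¹ * x * g := by rw [hxdef]; group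
        _ = q := by rw [hxdef, ← hqx]; group
    refine P.std_notMem_map ha₀ hau₀ hb₀ hbz₀ hv₀ hw₀ (g := g⁻¹ * g₁) (by rw [he]; exact hq)
      (fun h => hz'Q ?_) ?_
    · rw [he] at h
      have : x = z' := by rw [hxdef, ← hqx, h]
      rw [← this]; exact hx
    · refine ⟨q₂, hq₂, ?_⟩
      simp only [MulEquiv.coe_toMonoidHom, MulAut.conj_apply]
      calc g⁻¹ * g₁ * q₂ * (g⁻¹ * g₁)⁻¹ = g⁻¹ * (g₁ * q₂ * g₁⁻¹) * g := by group
        _ = a₀ * b₀ := by rw [hq₂', ← hg]; group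
  · refine P.no_swap ha₀ hau₀ hb₀ hbz₀ hv₀ hw₀ (g := h * g) ?_ ?_
    · rw [show h * g * (a₀ * b₀) * (h * g)⁻¹ = h * (g * (a₀ * b₀) * g⁻¹) * h⁻¹ by group, hg,
        P.S.conjZ hh]
    · rw [show h * g * z * (h * g)⁻¹ = h * (g * z * g⁻¹) * h⁻¹ by group]
      exact hh'

theorem two_classes {t : G} (ht : orderOf t = 2) : IsConj t z ∨ IsConj t (a₀ * b₀) := by
  obtain ⟨g, hg⟩ := exists_conj_centralizer P.S ht
  have ht2 : t * t = 1 := by rw [← pow_two, ← ht, pow_orderOf_eq_one]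
  have ht1 : t ≠ 1 := fun e => by rw [e, orderOf_one] at ht; omega
  set t' := g * t * g⁻¹ with ht'
  have htt : IsConj t t' := isConj_iff.2 ⟨g, rfl⟩
  have h2 : t' * t' = 1 := by
    rw [ht', show g * t * g⁻¹ * (g * t * g⁻¹) = g * (t * t) * g⁻¹ by group, ht2]; group
  have h1 : t' ≠ 1 := fun e => ht1 (conj_eq_one_iff.1 e)
  by_cases hQ : t' ∈ Q
  · exact Or.inl (htt.trans (P.isConj_of_mem hQ h2 h1))
  rcases P.invol_cases ha₀ hau₀ hb₀ hbz₀ hv₀ hw₀ hg h2 hQ with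
    ⟨g₁, -, -, q, hq, hq'⟩ | ⟨h, -, hh'⟩
  · simp only [MulEquiv.coe_toMonoidHom, MulAut.conj_apply] at hq'
    refine Or.inl ((htt.trans (isConj_iff.2 ⟨g₁⁻¹, ?_⟩)).trans
      (P.isConj_of_mem hq ?_ fun e => h1 ?_))
    · rw [← hq']; group
    · calc q * q = g₁⁻¹ * (g₁ * q * g₁⁻¹ * (g₁ * q * g₁⁻¹)) * g₁ := by group
        _ = 1 := by rw [hq', h2]; group
    · rw [← hq', e]; group
  · exact Or.inr (htt.trans (isConj_iff.2 ⟨h, hh'⟩))

end Std

end Pair

/-- A group of Suzuki type has exactly two classes of involutions. -/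
theorem exists_two_classes (S : Data z Q φ) (hfus : ∃ g : G, g * z * g⁻¹ ∈ Q ∧ g * z * g⁻¹ ≠ z) :
    ∃ a b : G, orderOf a = 2 ∧ orderOf b = 2 ∧ ¬ IsConj a b ∧
      ∀ x : G, orderOf x = 2 → IsConj x a ∨ IsConj x b := by
  obtain ⟨g, hg, hne⟩ := hfus
  obtain ⟨ψ, ψ', P⟩ := exists_pair S hg hne
  obtain ⟨a₀, ha, b₀, hb, hau, hbz, hv, hw⟩ := P.exists_std
  refine ⟨z, a₀ * b₀, S.pack.ord, orderOf_eq_prime ?_ ?_,
    P.std_not_conj ha hau hb hbz hv hw, fun x hx => P.two_classes ha hau hb hbz hv hw hx⟩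
  · rw [pow_two]; exact P.std_sq ha hau hb hbz hv hw
  · exact fun e => P.std_notMem ha hau hb hbz hv hw (e ▸ Q.one_mem)

end CfsgLib.InvChar.SuzType
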