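import Mathlib.Data.List.Basic

/-!
Data (found by a search) for the orthogonal group of the elliptic quadratic form on `F_2^6`: a Sylow
2-subgroup of its commutator subgroup and words in pairs of reflections. Vectors are coded by the
bits of a number.
-/

namespace CfsgLib.InvChar.SuzType

/-- The members of a Sylow 2-subgroup: images of the six basis vectors, and a word. -/
def sylData : List (List ℕ × List (ℕ × ℕ)) := [
  ([1, 2, 4, 8, 16, 32], []),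
  ([1, 2, 4, 28, 16, 36], [(20, 48), (32, 48)]),
  ([1, 2, 4, 44, 20, 32], [(16, 52), (32, 48)]),
  ([1, 2, 4, 60, 20, 36], [(20, 52), (32, 48)]),
  ([1, 6, 4, 29, 16, 36], [(3, 22), (17, 18)]),
  ([1, 6, 4, 45, 20, 32], [(3, 38), (33, 34)]),
  ([1, 6, 4, 61, 20, 36], [(3, 54), (49, 50)]),
  ([1, 15, 5, 9, 16, 32], [(13, 24), (20, 24)]),
  ([1, 19, 4, 8, 16, 33], [(17, 48), (32, 48)]),
  ([1, 19, 4, 28, 16, 37], [(11, 31), (17, 26)]),
  ([1, 19, 4, 45, 20, 33], [(17, 52), (32, 48)]),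
  ([1, 19, 4, 61, 20, 37], [(21, 53), (33, 49)]),
  ([1, 23, 4, 9, 16, 33], [(12, 25), (20, 24)]),
  ([1, 23, 4, 29, 16, 37], [(21, 48), (32, 48)]),
  ([1, 23, 4, 44, 20, 33], [(17, 53), (33, 49)]),
  ([1, 23, 4, 60, 20, 37], [(21, 52), (32, 48)]),
  ([1, 27, 5, 8, 16, 33], [(13, 25), (20, 24)]),
  ([1, 35, 4, 8, 17, 32], [(16, 49), (32, 48)]),
  ([1, 35, 4, 29, 17, 36], [(20, 53), (36, 52)]),
  ([1, 35, 4, 44, 21, 32], [(11, 47), (33, 42)]),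
  ([1, 35, 4, 61, 21, 36], [(20, 53), (32, 48)]),
  ([1, 39, 4, 9, 17, 32], [(12, 41), (36, 40)]),
  ([1, 39, 4, 28, 17, 36], [(20, 49), (32, 48)]),
  ([1, 39, 4, 45, 21, 32], [(16, 53), (32, 48)]),
  ([1, 39, 4, 60, 21, 36], [(20, 52), (33, 49)]),
  ([1, 43, 5, 8, 17, 32], [(13, 41), (36, 40)]),
  ([1, 51, 4, 8, 17, 33], [(17, 49), (32, 48)]),
  ([1, 51, 4, 29, 17, 37], [(21, 49), (32, 48)]),
  ([1, 51, 4, 45, 21, 33], [(17, 52), (33, 49)]),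
  ([1, 51, 4, 60, 21, 37], [(11, 63), (49, 58)]),
  ([1, 55, 4, 9, 17, 33], [(12, 57), (52, 56)]),
  ([1, 55, 4, 28, 17, 37], [(21, 53), (36, 52)]),
  ([1, 55, 4, 44, 21, 33], [(17, 53), (32, 48)]),
  ([1, 55, 4, 61, 21, 37], [(21, 53), (32, 48)]),
  ([1, 59, 5, 8, 17, 33], [(13, 57), (52, 56)]),
  ([1, 6, 4, 9, 16, 32], [(33, 52), (36, 53), (32, 48)]),
  ([1, 10, 5, 8, 16, 32], [(33, 56), (40, 57), (32, 48)]),
  ([1, 10, 5, 29, 16, 37], [(12, 24), (3, 18), (13, 14)]),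
  ([1, 10, 5, 45, 21, 32], [(12, 40), (3, 34), (13, 14)]),
  ([1, 10, 5, 61, 21, 37], [(12, 56), (3, 50), (13, 14)]),
  ([1, 15, 5, 28, 16, 37], [(47, 63), (34, 47), (20, 24)]),
  ([1, 15, 5, 44, 21, 32], [(32, 48), (13, 40), (20, 24)]),
  ([1, 15, 5, 60, 21, 37], [(32, 53), (13, 40), (20, 24)]),
  ([1, 27, 5, 29, 16, 36], [(47, 63), (34, 47), (21, 25)]),
  ([1, 27, 5, 44, 21, 33], [(24, 57), (18, 54), (18, 25)]),
  ([1, 27, 5, 60, 21, 36], [(41, 49), (38, 52), (18, 25)]),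
  ([1, 30, 5, 9, 16, 33], [(37, 52), (13, 56), (36, 40)]),
  ([1, 30, 5, 28, 16, 36], [(12, 25), (3, 18), (13, 14)]),
  ([1, 30, 5, 45, 21, 33], [(24, 56), (3, 38), (25, 26)]),
  ([1, 30, 5, 61, 21, 36], [(40, 48), (3, 54), (25, 26)]),
  ([1, 43, 5, 28, 17, 37], [(40, 57), (34, 41), (20, 31)]),
  ([1, 43, 5, 45, 20, 32], [(32, 49), (13, 41), (20, 24)]),
  ([1, 43, 5, 60, 20, 37], [(24, 58), (14, 40), (18, 25)]),
  ([1, 46, 5, 9, 17, 32], [(21, 52), (13, 56), (20, 24)]),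
  ([1, 46, 5, 29, 17, 37], [(40, 56), (3, 42), (21, 22)]),
  ([1, 46, 5, 44, 20, 32], [(12, 41), (3, 34), (13, 14)]),
  ([1, 46, 5, 61, 20, 37], [(41, 49), (3, 54), (25, 26)]),
  ([1, 59, 5, 28, 17, 36], [(40, 56), (34, 41), (20, 31)]),
  ([1, 59, 5, 44, 20, 33], [(42, 50), (14, 56), (18, 25)]),
  ([1, 59, 5, 61, 20, 36], [(33, 52), (13, 40), (20, 24)]),
  ([1, 62, 5, 9, 17, 33], [(36, 49), (13, 40), (20, 24)]),
  ([1, 62, 5, 29, 17, 36], [(40, 57), (3, 42), (21, 22)]),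
  ([1, 62, 5, 45, 20, 33], [(24, 57), (3, 38), (25, 26)]),
  ([1, 62, 5, 60, 20, 36], [(12, 57), (3, 50), (13, 14)])]

/-- Words moving the standard anisotropic pair to all such pairs. -/
def pairWords : List (List (ℕ × ℕ)) := [
  [],
  [(12, 20)],
  [(12, 24)],
  [(12, 36)],
  [(12, 40)],
  [(12, 52)],
  [(12, 56)],
  [(16, 32)],
  [(16, 36)],
  [(16, 40)],
  [(16, 48)],
  [(16, 52)],
  [(16, 56)],
  [(20, 32)],
  [(20, 36)],
  [(20, 48)],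
  [(20, 52)],
  [(24, 32)],
  [(24, 40)],
  [(24, 48)],
  [(24, 56)],
  [(12, 36), (12, 20)],
  [(12, 52), (12, 20)],
  [(16, 32), (12, 20)],
  [(16, 36), (12, 20)],
  [(16, 40), (12, 20)],
  [(16, 48), (12, 20)],
  [(16, 52), (12, 20)],
  [(16, 56), (12, 20)],
  [(20, 32), (12, 20)],
  [(20, 48), (12, 20)],
  [(24, 40), (12, 20)],
  [(24, 56), (12, 20)],
  [(16, 32), (12, 24)],
  [(16, 36), (12, 24)],
  [(16, 40), (12, 24)],
  [(16, 48), (12, 24)],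
  [(16, 52), (12, 24)],
  [(16, 56), (12, 24)],
  [(12, 52), (12, 36)],
  [(16, 32), (12, 36)],
  [(16, 40), (12, 36)],
  [(16, 52), (12, 36)],
  [(20, 32), (12, 36)],
  [(20, 52), (12, 36)],
  [(24, 32), (12, 36)],
  [(16, 32), (12, 40)],
  [(20, 32), (12, 40)],
  [(24, 32), (12, 40)],
  [(24, 56), (12, 40)],
  [(20, 36), (12, 52)],
  [(20, 48), (12, 52)],
  [(24, 40), (12, 56)],
  [(24, 48), (12, 56)],
  [(16, 52), (16, 32)],
  [(16, 56), (16, 32)],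
  [(20, 48), (16, 32)],
  [(20, 52), (16, 32)],
  [(24, 48), (16, 32)],
  [(24, 56), (16, 32)]]

end CfsgLib.InvChar.SuzType
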