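import Mathlib.Data.ZMod.Basic
import Mathlib.Algebra.Group.Prod
import Mathlib.Tactic
import Cfsg.Agent.Lib.InvChar.SuzType.SpaceData

/-!
The elliptic quadratic space of dimension six over the field with two elements, in coordinates: three
planes, two hyperbolic and one anisotropic. The finite facts needed for groups of Suzuki type.
-/

set_option autoImplicit false
set_option synthInstance.maxSize 4096
set_option synthInstance.maxHeartbeats 200000

namespace CfsgLib.InvChar.SuzType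

/-- A plane. -/
abbrev Pl : Type := ZMod 2 × ZMod 2

/-- The space. -/
abbrev V : Type := Pl × Pl × Pl

/-- The quadratic form. -/
def qf (x : V) : ZMod 2 :=
  x.1.1 * x.1.2 + x.2.1.1 * x.2.1.2 + x.2.2.1 * x.2.2.2 + x.2.2.1 + x.2.2.2

/-- The alternating form belonging to `qf`. -/
def bf (x y : V) : ZMod 2 :=
  x.1.1 * y.1.2 + x.1.2 * y.1.1 + (x.2.1.1 * y.2.1.2 + x.2.1.2 * y.2.1.1) +
    (x.2.2.1 * y.2.2.2 + x.2.2.2 * y.2.2.1)

theorem z2_sq : ∀ a : ZMod 2, a * a = a := by decide

theorem z2_cases' : ∀ a : ZMod 2, a = 0 ∨ a = 1 := by decide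

theorem z2_self : ∀ a : ZMod 2, a + a = 0 := by decide

theorem qf_add (x y : V) : qf (x + y) = qf x + qf y + bf x y := by
  simp only [qf, bf, Prod.fst_add, Prod.snd_add]; ring

theorem bf_symm (x y : V) : bf x y = bf y x := by simp only [bf]; ring

theorem bf_add_left (x y w : V) : bf (x + y) w = bf x w + bf y w := by
  simp only [bf, Prod.fst_add, Prod.snd_add]; ring

theorem bf_add_right (w x y : V) : bf w (x + y) = bf w x + bf w y := by
  simp only [bf, Prod.fst_add, Prod.snd_add]; ring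

theorem bf_self (x : V) : bf x x = 0 := by
  have h : ∀ a b : ZMod 2, a * b + b * a = 0 := by decide
  simp only [bf, h, add_zero]

theorem bf_zero (x : V) : bf x 0 = 0 := by simp [bf]

theorem zero_bf (x : V) : bf 0 x = 0 := by simp [bf]

theorem v_self : ∀ x : V, x + x = 0 := by decide +kernel

/-- The reflection in a vector. -/
def rf (a x : V) : V := if bf a x = 1 then x + a else x

theorem rf_add (a x y : V) : rf a (x + y) = rf a x + rf a y := by
  unfold rf
  rw [bf_add_right]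
  rcases z2_cases' (bf a x) with hx | hx <;> rcases z2_cases' (bf a y) with hy | hy <;>
    rw [hx, hy] <;> simp only [zero_ne_one, if_false, if_true, add_zero, zero_add,
      show (1 : ZMod 2) + 1 = 0 from rfl]
  · abel
  · abel
  · rw [show x + a + (y + a) = x + y + (a + a) by abel, v_self, add_zero]

theorem rf_qf {a : V} (ha : qf a = 1) (x : V) : qf (rf a x) = qf x := by
  unfold rf
  split_ifs with h
  · rw [qf_add, ha, bf_symm, h, add_assoc, show (1 : ZMod 2) + 1 = 0 from rfl, add_zero]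
  · rfl

theorem rf_rf (a x : V) : rf a (rf a x) = x := by
  unfold rf
  by_cases h : bf a x = 1
  · rw [if_pos h, bf_add_right, bf_self, add_zero, if_pos h, add_assoc, v_self, add_zero]
  · rw [if_neg h, if_neg h]

/-- The vector with the given code. -/
def code (n : ℕ) : V :=
  ((if n.testBit 0 then 1 else 0, if n.testBit 1 then 1 else 0),
    (if n.testBit 2 then 1 else 0, if n.testBit 3 then 1 else 0),
    (if n.testBit 4 then 1 else 0, if n.testBit 5 then 1 else 0))

theorem code_xor (a b : ℕ) : code (a ^^^ b) = code a + code b := by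
  have h : ∀ p r : Bool, (if (p ^^ r) then (1 : ZMod 2) else 0) =
      (if p then 1 else 0) + (if r then 1 else 0) := by decide
  simp only [code, Nat.testBit_xor, h, Prod.mk_add_mk]

/-- A scalar times a vector. -/
def sm (c : ZMod 2) (x : V) : V := if c = 1 then x else 0

theorem decomp : ∀ x : V, x = sm x.1.1 (code 1) + sm x.1.2 (code 2) + sm x.2.1.1 (code 4) +
    sm x.2.1.2 (code 8) + sm x.2.2.1 (code 16) + sm x.2.2.2 (code 32) := by decide +kernel

theorem additive_sm {f : V → V} (hf : ∀ x y, f (x + y) = f x + f y) (c : ZMod 2) (x : V) :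
    f (sm c x) = sm c (f x) := by
  unfold sm
  split_ifs
  · rfl
  · have h := hf 0 0
    rw [add_zero] at h
    exact left_eq_add.1 h

/-- Two additive maps that agree on the basis are equal. -/
theorem ext_basis {f g : V → V} (hf : ∀ x y, f (x + y) = f x + f y)
    (hg : ∀ x y, g (x + y) = g x + g y) (h : ∀ i < 6, f (code (2 ^ i)) = g (code (2 ^ i))) (x : V) :
    f x = g x := by
  rw [decomp x]
  simp only [hf, hg, additive_sm hf, additive_sm hg]
  rw [show f (code 1) = g (code 1) from h 0 (by norm_num),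
    show f (code 2) = g (code 2) from h 1 (by norm_num),
    show f (code 4) = g (code 4) from h 2 (by norm_num),
    show f (code 8) = g (code 8) from h 3 (by norm_num),
    show f (code 16) = g (code 16) from h 4 (by norm_num),
    show f (code 32) = g (code 32) from h 5 (by norm_num)]

theorem rf_bf {a : V} (ha : qf a = 1) (x y : V) : bf (rf a x) (rf a y) = bf x y := by
  have h := qf_add (rf a x) (rf a y)
  rw [← rf_add, rf_qf ha, rf_qf ha, rf_qf ha, qf_add] at h
  exact (add_left_cancel h).symm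

theorem rf_conj {c : V} (hc : qf c = 1) (a x : V) : rf (rf c a) x = rf c (rf a (rf c x)) := by
  have hb : bf (rf c a) x = bf a (rf c x) := by
    conv_lhs => rw [← rf_rf c x]
    rw [rf_bf hc]
  show (if bf (rf c a) x = 1 then x + rf c a else x) =
    rf c (if bf a (rf c x) = 1 then rf c x + a else rf c x)
  rw [hb]
  split_ifs
  · rw [rf_add, rf_rf]
  · rw [rf_rf]

/-- The map of a word in pairs of reflections. -/
def wfun : List (ℕ × ℕ) → V → V
  | [] => fun x => x
  | p :: r => fun x => rf (code p.1) (rf (code p.2) (wfun r x))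

/-- All pairs of the word consist of non-singular vectors that are not orthogonal. -/
def GoodWord (w : List (ℕ × ℕ)) : Prop :=
  ∀ p ∈ w, qf (code p.1) = 1 ∧ qf (code p.2) = 1 ∧ bf (code p.1) (code p.2) = 1

instance (w : List (ℕ × ℕ)) : Decidable (GoodWord w) := by unfold GoodWord; infer_instance

theorem wfun_add : ∀ (w : List (ℕ × ℕ)) (x y : V), wfun w (x + y) = wfun w x + wfun w y
  | [], _, _ => rfl
  | p :: r, x, y => by simp only [wfun, wfun_add r, rf_add]

theorem wfun_qf : ∀ (w : List (ℕ × ℕ)), GoodWord w → ∀ x : V, qf (wfun w x) = qf x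
  | [], _, _ => rfl
  | p :: r, h, x => by
    simp only [wfun]
    rw [rf_qf (h p (by simp)).1, rf_qf (h p (by simp)).2.1,
      wfun_qf r (fun a ha => h a (List.mem_cons_of_mem _ ha))]

/-- The linear map with the given images of the basis, on codes. -/
def apc (M : List ℕ) (n : ℕ) : ℕ :=
  (List.range 6).foldr (fun i r => if n.testBit i then (M.getD i 0) ^^^ r else r) 0

/-! ### The vectors used -/

/-- A singular vector. -/
def e1 : V := code 1
/-- A singular vector not orthogonal to `e1`. -/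
def f1 : V := code 2
/-- First vector of an anisotropic plane in `e1⊥`. -/
def v0 : V := code 16
/-- Second vector of that plane. -/
def w0 : V := code 32
/-- The non-singular vector orthogonal to `v0`, `w0`, `e1` and `f1`. -/
def d0 : V := code 12

theorem base_facts : qf e1 = 0 ∧ qf f1 = 0 ∧ bf e1 f1 = 1 ∧ bf f1 e1 = 1 ∧ bf v0 e1 = 0 ∧
    bf w0 e1 = 0 ∧ qf v0 = 1 ∧ qf w0 = 1 ∧ bf v0 w0 = 1 ∧ qf d0 = 1 ∧ e1 ≠ 0 ∧
    v0.2 ≠ 0 ∧ v0.2 ≠ w0.2 := by
  decide +kernel

theorem z_or_e1 : ∀ x : V, bf x e1 = 0 → x.2 = 0 → x = 0 ∨ x = e1 := by decide +kernel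

theorem zero_e1_bf : ∀ x d : V, bf x e1 = 0 → d.2 = 0 → bf d e1 = 0 → bf x d = 0 := by
  decide +kernel

theorem snd_congr : ∀ x d : V, bf x e1 = 0 → bf d e1 = 0 → x.2 = d.2 → x = d ∨ x = d + e1 := by
  decide +kernel

theorem radical_e1 : ∀ c : V, bf c e1 = 0 →
    (∀ x : V, bf x e1 = 0 → bf x c = 0) → c.2 = 0 := by decide +kernel

theorem sing_orth : ∀ v w : V, bf v e1 = 0 → bf w e1 = 0 → qf v = 0 → qf w = 0 → bf v w = 0 →
    v.2 = 0 ∨ w.2 = 0 ∨ v.2 = w.2 := by decide +kernel

theorem move_line : ∀ w : V, bf w e1 = 0 → qf w = 0 → w.2 ≠ 0 →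
    ∃ a b : V, bf a e1 = 0 ∧ bf b e1 = 0 ∧ qf a = 1 ∧ qf b = 1 ∧ bf a b = 1 ∧
      bf w (rf a (rf b w)) = 1 := by decide +kernel

theorem move_singular_step : ∀ u : V, u ≠ 0 → qf u = 0 → bf u e1 = 0 →
    ∃ m : V, qf m = 0 ∧ bf u m = 1 ∧ bf m e1 = 1 := by decide +kernel

theorem move_singular_refl : ∀ u m : V, qf u = 0 → qf m = 0 → bf u m = 1 →
    ∃ b : V, qf b = 1 ∧ bf b u = 0 ∧ bf (u + m) b = 1 := by decide +kernel

theorem choose_dual : ∀ v w : V, bf v e1 = 0 → bf w e1 = 0 → bf v w = 1 → ∀ i j : ZMod 2,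
    ∃ x : V, bf x e1 = 0 ∧ bf x v = i ∧ bf x w = j := by decide +kernel

theorem pairWords_good : ∀ p ∈ pairWords, GoodWord p ∧ wfun p e1 = e1 := by decide +kernel

theorem pairWords_move : ∀ v w : V, bf v e1 = 0 → bf w e1 = 0 → qf v = 1 → qf w = 1 →
    bf v w = 1 → ∃ p ∈ pairWords, (wfun p v0).2 = v.2 ∧ (wfun p w0).2 = w.2 := by decide +kernel

/-- The map attached to the standard pair. -/
def rad0 (x : V) : V := x + sm (bf x e1) (w0 + e1) + sm (bf x w0) e1

theorem rad0_qf : ∀ x : V, qf (rad0 x) = qf x := by decide +kernel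

theorem rad0_add : ∀ x y : V, rad0 (x + y) = rad0 x + rad0 y := by
  intro x y
  have h : ∀ a b : ZMod 2, ∀ u : V, sm (a + b) u = sm a u + sm b u := by
    intro a b u
    rcases z2_cases' a with rfl | rfl <;> rcases z2_cases' b with rfl | rfl <;>
      simp [sm, v_self, show (1 : ZMod 2) + 1 = 0 from rfl]
  unfold rad0
  rw [bf_add_left, bf_add_left, h, h]
  abel

theorem rad0_perp : ∀ x : V, bf x e1 = 0 → rad0 x = x + sm (bf x w0) e1 := by decide +kernel

theorem rad0_only : ∀ v : V, qf v = 0 → v ≠ 0 → v ≠ e1 →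
    ∃ y : V, bf y v = 0 ∧ rad0 y + y ≠ 0 ∧ rad0 y + y ≠ v := by decide +kernel

theorem refl_not_rad : ∀ v : V, qf v = 0 → v ≠ 0 →
    rf d0 v ≠ v ∨ ∃ x : V, bf x v = 0 ∧ rf d0 x + x ≠ 0 ∧ rf d0 x + x ≠ v := by decide +kernel

theorem rf_d0_fix : rf d0 e1 = e1 ∧ rf d0 v0 = v0 ∧ rf d0 w0 = w0 ∧ rf d0 f1 = f1 := by
  decide +kernel

theorem stab_pair : ∀ a b : V, bf a e1 = 0 → bf b e1 = 0 → bf a v0 = 0 → bf a w0 = 0 →
    bf b v0 = 0 → bf b w0 = 0 → qf a = 0 → qf b = 0 → bf a b = 1 →
      (a.2 = (code 4).2 ∧ b.2 = (code 8).2) ∨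
        (a.2 = (rf d0 (code 4)).2 ∧ b.2 = (rf d0 (code 8)).2) := by decide +kernel

theorem stab_base : bf (code 4) e1 = 0 ∧ bf (code 8) e1 = 0 ∧ bf (code 4) v0 = 0 ∧
    bf (code 4) w0 = 0 ∧ bf (code 8) v0 = 0 ∧ bf (code 8) w0 = 0 ∧ qf (code 4) = 0 ∧
    qf (code 8) = 0 ∧ bf (code 4) (code 8) = 1 := by decide +kernel

/-! ### The Sylow subgroup -/

theorem syl_good : ∀ p ∈ sylData, GoodWord p.2 ∧ p.1.length = 6 := by decide +kernel

theorem syl_eval : ∀ p ∈ sylData, ∀ n < 64, wfun p.2 (code n) = code (apc p.1 n) := by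
  decide +kernel

theorem syl_lt : ∀ p ∈ sylData, ∀ i < 6, p.1.getD i 0 < 64 := by decide +kernel

theorem syl_closed : ∀ p ∈ sylData, ∀ r ∈ sylData,
    (r.1.map (apc p.1)) ∈ sylData.map Prod.fst := by decide +kernel

theorem syl_basis : ∀ p ∈ sylData, ∀ i < 6, apc p.1 (2 ^ i) = p.1.getD i 0 := by decide +kernel

theorem syl_nodup : (sylData.map Prod.fst).Nodup ∧ sylData.length = 64 ∧
    ∃ p ∈ sylData, p.2 = [] := by decide +kernel

theorem syl_witness : ∀ p ∈ sylData, (∀ i < 6, apc p.1 (p.1.getD i 0) = 2 ^ i) →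
    p.1 ≠ [1, 2, 4, 8, 16, 32] →
    ∃ v < 64, code v ≠ 0 ∧ qf (code v) = 0 ∧ apc p.1 v = v ∧
      ∀ n < 64, bf (code n) (code v) = 0 → apc p.1 n = n ∨ apc p.1 n = n ^^^ v := by
  decide +kernel

end CfsgLib.InvChar.SuzType
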